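import Cfsg.Agent.Lib.J4Type.Cert.Decomp
import Cfsg.Agent.Lib.J4Type.Cert.OvalData

/-!
The two orbits of nonzero singular vectors, of lengths 1386 and 693, with representatives one and
five in the plane.
-/

set_option autoImplicit false
set_option maxRecDepth 10000

namespace CfsgLib.J4Type.Cert

/-- An element of the orbit of the vector one. -/
def oneAt (i : ℕ) : ℕ := getC oneOrb 0 i

/-- An element of the orbit of the vector five. -/
def fiveAt (i : ℕ) : ℕ := getC fiveOrb 0 i

/-- The step check of an orbit table. -/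
def orbOK (orb : ℕ → ℕ) (par : List (List (ℕ × ℕ))) (n s mask : ℕ) : Bool :=
  Nat.beq (orb 0) s &&
  ((List.range n).all fun i => Nat.blt (orb i) 4096 && mask.testBit (orb i) &&
    (gensL.all fun g => mask.testBit (mv g (orb i))) &&
    (Nat.beq i 0 || (Nat.blt (getC par (0, 0) i).2 i && Nat.blt (getC par (0, 0) i).1 5 &&
      Nat.beq (mv (gensX.getD (getC par (0, 0) i).1 noMap) (orb (getC par (0, 0) i).2)) (orb i))))

theorem oneOrb_ok : orbOK oneAt onePar 1386 1 oneMask = true := by decide +kernel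

theorem fiveOrb_ok : orbOK fiveAt fivePar 693 5 fiveMask = true := by decide +kernel

theorem mask_eq : ((List.range 1386).foldl (fun m i => m ||| 2 ^ oneAt i) 0 == oneMask &&
    (List.range 693).foldl (fun m i => m ||| 2 ^ fiveAt i) 0 == fiveMask &&
    Nat.beq (oneMask &&& fiveMask) 0) = true := by
  decide +kernel

theorem testBit_foldl (f : ℕ → ℕ) : ∀ (l : List ℕ) (m v : ℕ),
    (l.foldl (fun m i => m ||| 2 ^ f i) m).testBit v = true →
      m.testBit v = true ∨ ∃ i ∈ l, f i = v
  | [], m, v, h => Or.inl h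
  | x :: l, m, v, h => by
    rcases testBit_foldl f l _ v h with h' | ⟨i, hi, e⟩
    · rw [Nat.testBit_or, Bool.or_eq_true] at h'
      rcases h' with h' | h'
      · exact Or.inl h'
      · rw [Nat.testBit_two_pow, decide_eq_true_iff] at h'
        exact Or.inr ⟨x, List.mem_cons_self, h'⟩
    · exact Or.inr ⟨i, List.mem_cons_of_mem _ hi, e⟩

theorem oneMask_iff {v : ℕ} (h : oneMask.testBit v = true) : ∃ i < 1386, oneAt i = v := by
  have h' := mask_eq
  simp only [Bool.and_eq_true, beq_iff_eq] at h'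
  rw [← h'.1.1] at h
  rcases testBit_foldl oneAt _ _ v h with h0 | ⟨i, hi, e⟩
  · simp at h0
  · exact ⟨i, List.mem_range.1 hi, e⟩

theorem fiveMask_iff {v : ℕ} (h : fiveMask.testBit v = true) : ∃ i < 693, fiveAt i = v := by
  have h' := mask_eq
  simp only [Bool.and_eq_true, beq_iff_eq] at h'
  rw [← h'.1.2] at h
  rcases testBit_foldl fiveAt _ _ v h with h0 | ⟨i, hi, e⟩
  · simp at h0
  · exact ⟨i, List.mem_range.1 hi, e⟩

theorem orbOK.reach {orb : ℕ → ℕ} {par : List (List (ℕ × ℕ))} {n s mask : ℕ}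
    (h : orbOK orb par n s mask = true) (hs : s < 4096) :
    ∀ i < n, ∃ m, InX m ∧ mv m s = orb i := by
  simp only [orbOK, Bool.and_eq_true, List.all_eq_true, List.mem_range, Bool.or_eq_true] at h
  intro i
  induction i using Nat.strong_induction_on with
  | _ i ih =>
    intro hi
    rcases (h.2 i hi).2 with e | ⟨⟨h1, h2⟩, e⟩
    · refine ⟨idM, InX.one, ?_⟩
      rw [Nat.eq_of_beq_eq_true e, Nat.eq_of_beq_eq_true h.1, mv_idM hs]
    · obtain ⟨m, hm, e'⟩ := ih _ (blt_lt h1) ((blt_lt h1).trans hi)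
      refine ⟨_, InX.mul _ (gensX_mem (blt_lt h2)) hm, ?_⟩
      rw [mv_mm, e']
      exact Nat.eq_of_beq_eq_true e

theorem orbOK.closed {orb : ℕ → ℕ} {par : List (List (ℕ × ℕ))} {n s mask : ℕ}
    (h : orbOK orb par n s mask = true) (hn : 0 < n) (hs : s < 4096)
    (hmask : ∀ v, mask.testBit v = true → ∃ i < n, orb i = v)
    {m : List ℕ} (hm : InL m) : mask.testBit (mv m s) = true := by
  simp only [orbOK, Bool.and_eq_true, List.all_eq_true, List.mem_range, Bool.or_eq_true] at h
  induction hm with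
  | one =>
    rw [mv_idM hs, ← Nat.eq_of_beq_eq_true h.1]
    exact (h.2 0 hn).1.1.2
  | mul g hg _ ih =>
    obtain ⟨i, hi, e⟩ := hmask _ ih
    rw [mv_mm, ← e]
    exact (h.2 i hi).1.2 g hg

theorem sing_ok : ((List.range 4096).all fun v =>
    Nat.beq v 0 || qF v || oneMask.testBit v || fiveMask.testBit v) = true := by
  decide +kernel

end CfsgLib.J4Type.Cert

namespace CfsgLib.J4Type

open Cert

/-- Every nonzero singular vector is the image of the vector one or of the vector five. -/
theorem singular_cases {v : ℕ} (hv : v < 4096) (h0 : v ≠ 0) (hq : qF v = false) :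
    (∃ m, InX m ∧ mv m 1 = v) ∨ ∃ m, InX m ∧ mv m 5 = v := by
  have h := List.all_eq_true.1 sing_ok v (List.mem_range.2 hv)
  simp only [Bool.or_eq_true, hq, Bool.false_eq_true, or_false] at h
  rcases h with (e | e) | e
  · exact absurd (Nat.eq_of_beq_eq_true e) h0
  · obtain ⟨i, hi, rfl⟩ := oneMask_iff e
    exact Or.inl (orbOK.reach oneOrb_ok (by norm_num) i hi)
  · obtain ⟨i, hi, rfl⟩ := fiveMask_iff e
    exact Or.inr (orbOK.reach fiveOrb_ok (by norm_num) i hi)

/-- Every singular vector is carried into the plane. -/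
theorem singular_to_plane {v : ℕ} (hv : v < 4096) (hq : qF v = false) :
    ∃ m, InX m ∧ ∃ w < 64, mv m w = v := by
  by_cases h0 : v = 0
  · exact ⟨idM, InX.one, 0, by norm_num, by rw [h0, mv_zero]⟩
  rcases singular_cases hv h0 hq with ⟨m, hm, e⟩ | ⟨m, hm, e⟩
  · exact ⟨m, hm, 1, by norm_num, e⟩
  · exact ⟨m, hm, 5, by norm_num, e⟩

/-- The two orbits of singular vectors are different. -/
theorem orbit_one_ne_five {m : List ℕ} (hm : InL m) : mv m 1 ≠ 5 := by
  intro e
  have h1 := orbOK.closed oneOrb_ok (by norm_num) (by norm_num) (fun _ h => oneMask_iff h) hm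
  have h5 := orbOK.closed fiveOrb_ok (by norm_num) (by norm_num) (fun _ h => fiveMask_iff h)
    InL.one
  rw [mv_idM (by norm_num : 5 < 4096)] at h5
  rw [e] at h1
  have h := mask_eq
  simp only [Bool.and_eq_true] at h
  have h' : (oneMask &&& fiveMask).testBit 5 = true := by rw [Nat.testBit_and, h1, h5]; rfl
  rw [Nat.eq_of_beq_eq_true h.2] at h'
  simp at h'

end CfsgLib.J4Type
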