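import Cfsg.Agent.Lib.J4Type.Cert.Decomp

/-!
Subgroups of `LGrp` from tables, and the placement of normal two-subgroups inside a given subgroup
of two-power order.
-/

set_option autoImplicit false

namespace CfsgLib.J4Type.Cert

/-- A map in decomposed form. -/
def decodeM (c : ℕ × ℕ × ℕ × ℕ) : List ℕ :=
  bif Nat.beq c.2.2.2 1 then mm (mm (rM c.1) (mm (qM c.2.1) (kM c.2.2.1))) sig
  else mm (rM c.1) (mm (qM c.2.1) (kM c.2.2.1))

/-- The bounds for a map in decomposed form. -/
def codeOK (c : ℕ × ℕ × ℕ × ℕ) : Bool :=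
  Nat.blt c.1 77 && Nat.blt c.2.1 16 && Nat.blt c.2.2.1 1080

/-- The check of a table of a subgroup. -/
def tableOK (code : List (ℕ × ℕ × ℕ × ℕ)) (els : List (List ℕ)) (par : List (ℕ × ℕ))
    (step : List (List ℕ)) : Bool :=
  code.all codeOK &&
  Nat.blt 0 els.length &&
  els.getD 0 noMap == idM &&
  ((List.range els.length).all fun i => Nat.beq i 0 ||
    (Nat.blt (par.getD i (0, 0)).2 i && Nat.blt (par.getD i (0, 0)).1 code.length &&
      mm (decodeM (code.getD (par.getD i (0, 0)).1 (0, 0, 0, 0)))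
        (els.getD (par.getD i (0, 0)).2 noMap) == els.getD i noMap)) &&
  ((List.range code.length).all fun g => (List.range els.length).all fun i =>
    Nat.blt ((step.getD g []).getD i 0) els.length &&
      mm (decodeM (code.getD g (0, 0, 0, 0))) (els.getD i noMap) ==
        els.getD ((step.getD g []).getD i 0) noMap) &&
  ((List.range els.length).all fun i => (List.range i).all fun j =>
    !(els.getD i noMap == els.getD j noMap))

theorem inL_decodeM {c : ℕ × ℕ × ℕ × ℕ} (h : codeOK c = true) : InL (decodeM c) := by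
  simp only [codeOK, Bool.and_eq_true] at h
  have hx := ((inX_rM _ (blt_lt h.1.1)).comp (inX_stab (blt_lt h.1.2) (blt_lt h.2))).inL
  unfold decodeM
  cases Nat.beq c.2.2.2 1
  · exact hx
  · exact hx.comp InL.sig_mem

theorem getD_mem {α : Type*} {l : List α} {i : ℕ} (d : α) (h : i < l.length) :
    l.getD i d ∈ l := by
  rw [List.getD_eq_getElem _ _ h]
  exact List.getElem_mem h

theorem mem_getD {α : Type*} {l : List α} {x : α} (d : α) (h : x ∈ l) :
    ∃ i < l.length, l.getD i d = x := by
  obtain ⟨i, hi, e⟩ := List.getElem_of_mem h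
  exact ⟨i, hi, by rw [List.getD_eq_getElem _ _ hi, e]⟩

/-- A checked table is a subgroup. -/
theorem exists_subgroup_of_table {code : List (ℕ × ℕ × ℕ × ℕ)} {els : List (List ℕ)}
    {par : List (ℕ × ℕ)} {step : List (List ℕ)} (h : tableOK code els par step = true) :
    ∃ S : Subgroup LGrp, Nat.card S = els.length ∧ ∀ a : LGrp, a ∈ S ↔ a.1 ∈ els := by
  simp only [tableOK, Bool.and_eq_true, List.all_eq_true, List.mem_range, Bool.or_eq_true,
    beq_iff_eq] at h
  obtain ⟨⟨⟨⟨⟨hc, hpos⟩, h0⟩, hpar⟩, hstep⟩, hnd⟩ := h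
  have hg : ∀ g < code.length, InL (decodeM (code.getD g (0, 0, 0, 0))) := fun g hg =>
    inL_decodeM (hc _ (getD_mem _ hg))
  have hIn : ∀ i < els.length, InL (els.getD i noMap) := by
    intro i
    induction i using Nat.strong_induction_on with
    | _ i ih =>
      intro hi
      rcases hpar i hi with e | ⟨⟨h1, h2⟩, e⟩
      · rw [Nat.eq_of_beq_eq_true e, h0]; exact InL.one
      · rw [← e]
        exact (hg _ (blt_lt h2)).comp (ih _ (blt_lt h1) ((blt_lt h1).trans hi))
  have hmul : ∀ i < els.length, ∀ b ∈ els, mm (els.getD i noMap) b ∈ els := by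
    intro i
    induction i using Nat.strong_induction_on with
    | _ i ih =>
      intro hi b hb
      rcases hpar i hi with e | ⟨⟨h1, h2⟩, e⟩
      · obtain ⟨j, hj, rfl⟩ := mem_getD noMap hb
        rw [Nat.eq_of_beq_eq_true e, h0, (hIn j hj).idM_mm]
        exact getD_mem _ hj
      · rw [← e, mm_assoc]
        obtain ⟨k, hk, ek⟩ := mem_getD noMap (ih _ (blt_lt h1) ((blt_lt h1).trans hi) b hb)
        rw [← ek]
        have hs := hstep _ (blt_lt h2) k hk
        rw [hs.2]
        exact getD_mem _ (blt_lt hs.1)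
  let M : Submonoid LGrp :=
    { carrier := {a | a.1 ∈ els}
      mul_mem' := fun {a b} ha hb => by
        obtain ⟨i, hi, e⟩ := mem_getD noMap ha
        show mm a.1 b.1 ∈ els
        rw [← e]
        exact hmul i hi _ hb
      one_mem' := by
        show idM ∈ els
        rw [← h0]
        exact getD_mem _ (blt_lt hpos) }
  let S : Subgroup LGrp :=
    { M with
      inv_mem' := fun {a} ha => by
        obtain ⟨m, hm⟩ := (isOfFinOrder_of_finite a).mem_powers_iff_mem_zpowers.2
          (Subgroup.mem_zpowers_iff.2 ⟨-1, by simp⟩ : a⁻¹ ∈ Subgroup.zpowers a)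
        change a ^ m = a⁻¹ at hm
        show a⁻¹ ∈ M
        rw [← hm]
        exact pow_mem ha m }
  refine ⟨S, ?_, fun a => Iff.rfl⟩
  have hndp : els.Nodup := by
    rw [List.nodup_iff_injective_getElem]
    intro i j e
    by_contra hne
    have key : ∀ i j : Fin els.length, (j : ℕ) < i → els[(i : ℕ)] ≠ els[(j : ℕ)] := by
      intro i j hlt e
      have := hnd i i.2 j hlt
      rw [List.getD_eq_getElem _ _ i.2, List.getD_eq_getElem _ _ j.2, e] at this
      simp at this
    rcases Nat.lt_or_gt_of_ne (fun e' => hne (Fin.ext e')) with hl | hl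
    · exact key j i hl e.symm
    · exact key i j hl e
  let f : Fin els.length → S := fun i =>
    ⟨⟨els.getD i noMap, hIn i i.2⟩, getD_mem noMap i.2⟩
  have hf : Function.Bijective f := by
    constructor
    · intro i j e
      have e' : els.getD i noMap = els.getD j noMap :=
        congrArg (fun x : S => (x : LGrp).1) e
      rw [List.getD_eq_getElem _ _ i.2, List.getD_eq_getElem _ _ j.2] at e'
      exact List.nodup_iff_injective_getElem.1 hndp e'
    · intro a
      obtain ⟨i, hi, e⟩ := mem_getD noMap (show (a : LGrp).1 ∈ els from a.2)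
      exact ⟨⟨i, hi⟩, Subtype.ext (Subtype.ext e)⟩
  rw [← Nat.card_congr (Equiv.ofBijective f hf), Nat.card_fin]

/-- A normal two-subgroup lies in every subgroup of full two-power order. -/
theorem le_of_normal_two {H : Type*} [Group H] [Finite H] {a m : ℕ} (hm : Odd m)
    {K S N : Subgroup H} (hK : Nat.card K = 2 ^ a * m) (hSK : S ≤ K) (hS : Nat.card S = 2 ^ a)
    (hNK : N ≤ K) (hN : K ≤ Subgroup.normalizer (N : Set H)) (h2 : IsPGroup 2 N) : N ≤ S := by
  have hSp : IsPGroup 2 S := IsPGroup.of_card hS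
  have hsup : IsPGroup 2 ↥(S ⊔ N) := hSp.to_sup_of_normal_right' h2 (hSK.trans hN)
  haveI : Fact (Nat.Prime 2) := ⟨Nat.prime_two⟩
  obtain ⟨b, hb⟩ := IsPGroup.iff_card.1 hsup
  have hdvd : 2 ^ b ∣ 2 ^ a * m := by
    rw [← hb, ← hK]
    exact Subgroup.card_dvd_of_le (sup_le hSK hNK)
  have hco : Nat.Coprime (2 ^ b) m := Nat.Coprime.pow_left _ (Nat.coprime_two_left.2 hm)
  have hle : 2 ^ b ≤ 2 ^ a :=
    Nat.le_of_dvd (Nat.two_pow_pos a) (hco.dvd_of_dvd_mul_right hdvd)
  have he : S ⊔ N = S := by
    refine (Subgroup.eq_of_le_of_card_ge le_sup_left ?_).symm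
    rw [hb, hS]
    exact hle
  exact he ▸ le_sup_right

end CfsgLib.J4Type.Cert
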