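import Cfsg.Agent.Lib.J4Type.Cert.Orbits
import Cfsg.Agent.Lib.J4Type.Cert.ListGrp

/-!
The stabiliser of the vector one has order 1920, the group has order 2661120, and a normal
two-subgroup of that stabiliser has at most sixteen elements.
-/

set_option autoImplicit false
set_option maxRecDepth 10000

namespace CfsgLib.J4Type.Cert

theorem ovS1_ok : tableOK ovS1Code ovS1Els ovS1Par ovS1Step = true := by decide +kernel

theorem ovS2_ok : tableOK ovS2Code ovS2Els ovS2Par ovS2Step = true := by decide +kernel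

theorem ovS3_ok : tableOK ovS3Code ovS3Els ovS3Par ovS3Step = true := by decide +kernel

theorem ovS4_ok : tableOK ovS4Code ovS4Els ovS4Par ovS4Step = true := by decide +kernel

theorem ov_fix_ok : ((ovS1Els.all fun m => Nat.beq (mv m 1) 1) &&
    (ovS2Els.all fun m => Nat.beq (mv m 1) 1) && (ovS3Els.all fun m => Nat.beq (mv m 1) 1) &&
    (ovS4Els.all fun m => Nat.beq (mv m 1) 1)) = true := by
  decide +kernel

theorem ov_len : ovS1Els.length = 128 ∧ ovS2Els.length = 128 ∧ ovS3Els.length = 3 ∧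
    ovS4Els.length = 5 ∧ ovMeet.length = 16 := by
  decide +kernel

theorem ov_meet_ok : (ovS1Els.all fun m => !(ovS2Els.elem m) || ovMeet.elem m) = true := by
  decide +kernel

theorem oneAt_inj : ((List.range 1386).all fun i => (List.range i).all fun j =>
    !Nat.beq (oneAt i) (oneAt j)) = true := by
  decide +kernel

/-- The action on vectors. -/
noncomputable instance instActVec : MulAction LGrp (Fin 4096) where
  smul a v := ⟨a.act v, a.2.mv_lt _⟩
  one_smul v := Fin.ext (LGrp.act_one v.2)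
  mul_smul a b v := Fin.ext (LGrp.act_mul a b v)

theorem val_smul (a : LGrp) (v : Fin 4096) : ((a • v : Fin 4096) : ℕ) = a.act v := rfl

/-- The stabiliser of the vector one. -/
noncomputable def ovStab : Subgroup LGrp := MulAction.stabilizer LGrp (1 : Fin 4096)

theorem mem_ovStab {a : LGrp} : a ∈ ovStab ↔ mv a.1 1 = 1 := by
  rw [ovStab, MulAction.mem_stabilizer_iff, Fin.ext_iff, val_smul]
  exact Iff.rfl

theorem card_orbit_one_ge : 1386 ≤ Nat.card (MulAction.orbit LGrp (1 : Fin 4096)) := by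
  have hreach := orbOK.reach oneOrb_ok (by norm_num : (1 : ℕ) < 4096)
  have hmem : ∀ i : Fin 1386, ∃ x ∈ MulAction.orbit LGrp (1 : Fin 4096), (x : ℕ) = oneAt i := by
    intro i
    obtain ⟨m, hm, e⟩ := hreach i i.2
    let a : LGrp := ⟨m, hm.inL⟩
    exact ⟨a • (1 : Fin 4096), MulAction.mem_orbit _ _, e⟩
  choose x hx hxe using hmem
  have hinj : Function.Injective (fun i => (⟨x i, hx i⟩ : MulAction.orbit LGrp (1 : Fin 4096))) := by
    intro i j e
    have e' : oneAt i = oneAt j := by
      rw [← hxe i, ← hxe j]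
      exact congrArg (fun y : MulAction.orbit LGrp (1 : Fin 4096) => ((y.1 : Fin 4096) : ℕ)) e
    by_contra hne
    have h := oneAt_inj
    simp only [List.all_eq_true, List.mem_range] at h
    rcases Nat.lt_or_gt_of_ne (fun e'' => hne (Fin.ext e'')) with hl | hl
    · have := h j j.2 i hl
      simp [e'] at this
    · have := h i i.2 j hl
      simp [e'] at this
  have := Nat.card_le_card_of_injective _ hinj
  simpa using this

theorem exists_stab_subgroup {code : List (ℕ × ℕ × ℕ × ℕ)} {els : List (List ℕ)}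
    {par : List (ℕ × ℕ)} {step : List (List ℕ)} (h : tableOK code els par step = true)
    (hfix : (els.all fun m => Nat.beq (mv m 1) 1) = true) :
    ∃ S : Subgroup LGrp, S ≤ ovStab ∧ Nat.card S = els.length ∧ ∀ a : LGrp, a ∈ S ↔ a.1 ∈ els := by
  obtain ⟨S, hS, hmem⟩ := exists_subgroup_of_table h
  exact ⟨S, fun a ha => mem_ovStab.2
    (Nat.eq_of_beq_eq_true (List.all_eq_true.1 hfix _ ((hmem a).1 ha))), hS, hmem⟩

theorem card_ovStab_and_LGrp : Nat.card ovStab = 1920 ∧ Nat.card LGrp = 2661120 := by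
  have hos : Nat.card (MulAction.orbit LGrp (1 : Fin 4096)) * Nat.card ovStab = Nat.card LGrp := by
    rw [Nat.card_coe_set_eq, ← MulAction.index_stabilizer LGrp (1 : Fin 4096)]
    exact Subgroup.index_mul_card _
  have hf := ov_fix_ok
  simp only [Bool.and_eq_true] at hf
  obtain ⟨S1, h1le, h1, -⟩ := exists_stab_subgroup ovS1_ok hf.1.1.1
  obtain ⟨S3, h3le, h3, -⟩ := exists_stab_subgroup ovS3_ok hf.1.2
  obtain ⟨S4, h4le, h4, -⟩ := exists_stab_subgroup ovS4_ok hf.2
  have d1 := Subgroup.card_dvd_of_le h1le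
  have d3 := Subgroup.card_dvd_of_le h3le
  have d4 := Subgroup.card_dvd_of_le h4le
  rw [h1, ov_len.1] at d1
  rw [h3, ov_len.2.2.1] at d3
  rw [h4, ov_len.2.2.2.1] at d4
  have h15 : 15 ∣ Nat.card ovStab :=
    Nat.Coprime.mul_dvd_of_dvd_of_dvd (by norm_num : Nat.Coprime 3 5) d3 d4
  have h1920 : 1920 ∣ Nat.card ovStab :=
    Nat.Coprime.mul_dvd_of_dvd_of_dvd (by norm_num : Nat.Coprime 128 15) d1 h15
  have hpos : 0 < Nat.card ovStab := Nat.card_pos
  have hge : 1920 ≤ Nat.card ovStab := Nat.le_of_dvd hpos h1920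
  have hle := card_LGrp_le
  have ho := card_orbit_one_ge
  constructor
  · nlinarith
  · nlinarith

/-- The group has order 2661120. -/
theorem card_LGrp : Nat.card LGrp = 2661120 := card_ovStab_and_LGrp.2

/-- A normal two-subgroup of the stabiliser of the vector one has at most sixteen elements. -/
theorem oval_normal_le {N : Subgroup LGrp} (hfix : ∀ n ∈ N, mv n.1 1 = 1)
    (hnormal : ∀ s : LGrp, mv s.1 1 = 1 → ∀ n ∈ N, s * n * s⁻¹ ∈ N) (h2 : IsPGroup 2 N) :
    Nat.card N ≤ 16 := by
  have hNK : N ≤ ovStab := fun n hn => mem_ovStab.2 (hfix n hn)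
  have hN : ovStab ≤ Subgroup.normalizer (N : Set LGrp) := by
    intro s hs
    rw [Subgroup.mem_normalizer_iff]
    intro n
    refine ⟨fun hn => hnormal s (mem_ovStab.1 hs) n hn, fun hn => ?_⟩
    have := hnormal s⁻¹ (mem_ovStab.1 (inv_mem hs)) _ hn
    simpa [mul_assoc] using this
  have hK : Nat.card ovStab = 2 ^ 7 * 15 := by rw [card_ovStab_and_LGrp.1]; norm_num
  have hf := ov_fix_ok
  simp only [Bool.and_eq_true] at hf
  obtain ⟨S1, h1le, h1, m1⟩ := exists_stab_subgroup ovS1_ok hf.1.1.1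
  obtain ⟨S2, h2le, h2', m2⟩ := exists_stab_subgroup ovS2_ok hf.1.1.2
  rw [ov_len.1] at h1
  rw [ov_len.2.1] at h2'
  have l1 := le_of_normal_two (by decide : Odd 15) hK h1le (by rw [h1]; norm_num) hNK hN h2
  have l2 := le_of_normal_two (by decide : Odd 15) hK h2le (by rw [h2']; norm_num) hNK hN h2
  have hmeet : ∀ n ∈ N, n.1 ∈ ovMeet := by
    intro n hn
    have h := List.all_eq_true.1 ov_meet_ok _ ((m1 n).1 (l1 hn))
    simp only [Bool.or_eq_true, Bool.not_eq_true', List.elem_iff] at h
    rcases h with e | e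
    · simp [(m2 n).1 (l2 hn)] at e
    · exact e
  have hinj : Function.Injective
      (fun n : N => (⟨(n : LGrp).1, hmeet n n.2⟩ : {m // m ∈ ovMeet})) := fun a b e =>
    Subtype.ext (Subtype.ext (congrArg (fun x : {m // m ∈ ovMeet} => x.1) e))
  refine (Nat.card_le_card_of_injective _ hinj).trans ?_
  have : Nat.card {m // m ∈ ovMeet} ≤ ovMeet.length := by
    have hs : Function.Surjective (fun i : Fin ovMeet.length =>
        (⟨ovMeet[(i : ℕ)], List.getElem_mem i.2⟩ : {m // m ∈ ovMeet})) := fun x => by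
      obtain ⟨i, hi, e⟩ := List.getElem_of_mem x.2
      exact ⟨⟨i, hi⟩, Subtype.ext e⟩
    simpa using Nat.card_le_card_of_surjective _ hs
  exact this.trans ov_len.2.2.2.2.le

end CfsgLib.J4Type.Cert
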