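import Cfsg.Agent.Lib.J4Type.Cert.LData

/-!
Every element of `InX` is a representative of one of the 77 images of the plane times an element of
the upper radical times an element of the Levi part; `InL` adds the semilinear involution.
-/

set_option autoImplicit false
set_option maxRecDepth 10000

namespace CfsgLib.J4Type

open Cert

namespace Cert

/-- An element of the Levi part. -/
def kM (i : ℕ) : List ℕ := getC kList noMap i

/-- An element of the upper radical. -/
def qM (a : ℕ) : List ℕ := qList.getD a noMap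

/-- A representative of an image of the plane. -/
def rM (p : ℕ) : List ℕ := repList.getD p noMap

/-- The Levi generators. -/
def gensK : List (List ℕ) := [kX, kA, kB]

/-- The linear generators. -/
def gensX : List (List ℕ) := [kX, kA, kB, qU, qL]

/-- The transition tables of the Levi part. -/
def kStep (g : ℕ) : List (List ℕ) := [kStep0, kStep1, kStep2].getD g kStep0

/-- Whether a map sends the plane into itself. -/
def stabF (m : List ℕ) : Bool := (List.range 6).all fun i => Nat.blt (mv m (2 ^ i)) 64

theorem kPar_ok : ((List.range 1080).all fun i => (Nat.beq i 0 && kM i == idM) ||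
    (Nat.blt (getC kPar (0, 0) i).2 i && Nat.blt (getC kPar (0, 0) i).1 3 &&
      mm (gensK.getD (getC kPar (0, 0) i).1 noMap) (kM (getC kPar (0, 0) i).2) == kM i)) = true := by
  decide +kernel

theorem kStep_ok : ((List.range 3).all fun g => (List.range 1080).all fun i =>
    Nat.blt (getC (kStep g) 0 i) 1080 &&
      mm (gensK.getD g noMap) (kM i) == kM (getC (kStep g) 0 i)) = true := by
  decide +kernel

theorem qConj_ok : ((List.range 16).all fun a => (Nat.beq a 0 && qM a == idM) ||
    (Nat.blt (qConj.getD a (0, 0)).1 1080 && Nat.blt (qConj.getD a (0, 0)).2 1080 &&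
      mm (kM (qConj.getD a (0, 0)).1) (mm qU (kM (qConj.getD a (0, 0)).2)) == qM a)) = true := by
  decide +kernel

theorem qPerm_ok : ((List.range 3).all fun g => (List.range 16).all fun a =>
    Nat.blt ((qPerm.getD g []).getD a 0) 16 &&
      mm (gensK.getD g noMap) (qM a) ==
        mm (qM ((qPerm.getD g []).getD a 0)) (gensK.getD g noMap)) = true := by
  decide +kernel

theorem qMul_ok : ((List.range 16).all fun a => (List.range 16).all fun b =>
    Nat.blt ((qMul.getD a []).getD b 0) 16 &&
      mm (qM a) (qM b) == qM ((qMul.getD a []).getD b 0)) = true := by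
  decide +kernel

theorem repPar_ok : ((List.range 77).all fun p => (Nat.beq p 0 && rM p == idM) ||
    (Nat.blt (repPar.getD p (0, 0)).2 p && Nat.blt (repPar.getD p (0, 0)).1 5 &&
      mm (gensX.getD (repPar.getD p (0, 0)).1 noMap) (rM (repPar.getD p (0, 0)).2) == rM p))
      = true := by
  decide +kernel

/-- An entry of the table of the generators on the images of the plane. -/
def rStep (g p : ℕ) : ℕ × ℕ × ℕ := (repStep.getD g []).getD p (0, 0, 0)

theorem repStep_ok : ((List.range 5).all fun g => (List.range 77).all fun p =>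
    Nat.blt (rStep g p).1 77 && Nat.blt (rStep g p).2.1 16 && Nat.blt (rStep g p).2.2 1080 &&
      mm (gensX.getD g noMap) (rM p) ==
        mm (rM (rStep g p).1) (mm (qM (rStep g p).2.1) (kM (rStep g p).2.2))) = true := by
  decide +kernel

theorem sig_ok : (((List.range 3).all fun g => Nat.blt (sigK.getD g 0) 1080 &&
      mm sig (mm (gensK.getD g noMap) sig) == kM (sigK.getD g 0)) &&
    mm sig (mm qU sig) == qU && mm sig (mm qL sig) == qL && mm sig sig == idM) = true := by
  decide +kernel

theorem stabF_ok : (((List.range 16).all fun a => stabF (qM a)) && gensK.all stabF && stabF sig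
    && (List.range 77).all fun p => Nat.beq p 0 || !stabF (rM p)) = true := by
  decide +kernel

theorem kFaith_ok : ((List.range 1080).all fun i => Nat.beq i 0 ||
    (List.range 6).any fun b => !Nat.beq (mv (kM i) (2 ^ b)) (2 ^ b)) = true := by
  decide +kernel

theorem qFix_ok : ((List.range 16).all fun a =>
    (List.range 6).all fun b => Nat.beq (mv (qM a) (2 ^ b)) (2 ^ b)) = true := by
  decide +kernel

theorem gensK_mem {g : ℕ} (hg : g < 3) : gensK.getD g noMap ∈ [kX, kA, kB] := by
  interval_cases g <;> simp [gensK]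

theorem gensX_mem {g : ℕ} (hg : g < 5) : gensX.getD g noMap ∈ [kX, kA, kB, qU, qL] := by
  interval_cases g <;> simp [gensX]

theorem blt_lt {a b : ℕ} (h : Nat.blt a b = true) : a < b := Nat.le_of_ble_eq_true h

theorem kM_zero : kM 0 = idM := by decide +kernel

theorem inK_kM : ∀ i < 1080, InK (kM i) := by
  intro i
  induction i using Nat.strong_induction_on with
  | _ i ih =>
    intro hi
    have h := List.all_eq_true.1 kPar_ok i (List.mem_range.2 hi)
    simp only [Bool.or_eq_true, Bool.and_eq_true, beq_iff_eq] at h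
    rcases h with ⟨-, e⟩ | ⟨⟨h1, h2⟩, e⟩
    · rw [e]; exact InK.one
    · rw [← e]
      exact InK.mul _ (gensK_mem (blt_lt h2)) (ih _ (blt_lt h1) ((blt_lt h1).trans hi))

theorem kStep_spec {g i : ℕ} (hg : g < 3) (hi : i < 1080) :
    ∃ j < 1080, mm (gensK.getD g noMap) (kM i) = kM j := by
  have h := List.all_eq_true.1 (List.all_eq_true.1 kStep_ok g (List.mem_range.2 hg)) i
    (List.mem_range.2 hi)
  simp only [Bool.and_eq_true, beq_iff_eq] at h
  exact ⟨_, blt_lt h.1, h.2⟩

theorem mem_gensK {g : List ℕ} (hg : g ∈ [kX, kA, kB]) : ∃ i < 3, gensK.getD i noMap = g := by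
  simp only [List.mem_cons, List.not_mem_nil, or_false] at hg
  rcases hg with rfl | rfl | rfl
  exacts [⟨0, by norm_num, rfl⟩, ⟨1, by norm_num, rfl⟩, ⟨2, by norm_num, rfl⟩]

theorem mem_gensX {g : List ℕ} (hg : g ∈ [kX, kA, kB, qU, qL]) :
    ∃ i < 5, gensX.getD i noMap = g := by
  simp only [List.mem_cons, List.not_mem_nil, or_false] at hg
  rcases hg with rfl | rfl | rfl | rfl | rfl
  exacts [⟨0, by norm_num, rfl⟩, ⟨1, by norm_num, rfl⟩, ⟨2, by norm_num, rfl⟩,
    ⟨3, by norm_num, rfl⟩, ⟨4, by norm_num, rfl⟩]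

end Cert

theorem InK.exists_idx {m : List ℕ} (h : InK m) : ∃ i < 1080, m = kM i := by
  induction h with
  | one => exact ⟨0, by norm_num, kM_zero.symm⟩
  | mul g hg hm ih =>
    obtain ⟨i, hi, rfl⟩ := ih
    obtain ⟨n, hn, rfl⟩ := mem_gensK hg
    exact kStep_spec hn hi

theorem InK.swapQ {m : List ℕ} (h : InK m) :
    ∀ a < 16, ∃ b < 16, mm m (qM a) = mm (qM b) m := by
  induction h with
  | one =>
    intro a ha
    refine ⟨a, ha, ?_⟩
    have hq : InL (qM a) := by
      have h := List.all_eq_true.1 qConj_ok a (List.mem_range.2 ha)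
      simp only [Bool.or_eq_true, Bool.and_eq_true, beq_iff_eq] at h
      rcases h with ⟨-, e⟩ | ⟨⟨h1, h2⟩, e⟩
      · rw [e]; exact InL.one
      · rw [← e]
        exact ((inK_kM _ (blt_lt h1)).inX.comp
          (InX.qU_mem.comp (inK_kM _ (blt_lt h2)).inX)).inL
    rw [hq.idM_mm, hq.mm_idM]
  | mul g hg hm ih =>
    intro a ha
    obtain ⟨b, hb, e⟩ := ih a ha
    obtain ⟨n, hn, rfl⟩ := mem_gensK hg
    have h := List.all_eq_true.1 (List.all_eq_true.1 qPerm_ok n (List.mem_range.2 hn)) b
      (List.mem_range.2 hb)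
    simp only [Bool.and_eq_true, beq_iff_eq] at h
    refine ⟨_, blt_lt h.1, ?_⟩
    rw [mm_assoc, e, ← mm_assoc, h.2, mm_assoc]

namespace Cert

theorem inX_qM {a : ℕ} (ha : a < 16) : InX (qM a) := by
  have h := List.all_eq_true.1 qConj_ok a (List.mem_range.2 ha)
  simp only [Bool.or_eq_true, Bool.and_eq_true, beq_iff_eq] at h
  rcases h with ⟨-, e⟩ | ⟨⟨h1, h2⟩, e⟩
  · rw [e]; exact InX.one
  · rw [← e]
    exact (inK_kM _ (blt_lt h1)).inX.comp (InX.qU_mem.comp (inK_kM _ (blt_lt h2)).inX)

theorem inX_rM : ∀ p < 77, InX (rM p) := by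
  intro p
  induction p using Nat.strong_induction_on with
  | _ p ih =>
    intro hp
    have h := List.all_eq_true.1 repPar_ok p (List.mem_range.2 hp)
    simp only [Bool.or_eq_true, Bool.and_eq_true, beq_iff_eq] at h
    rcases h with ⟨-, e⟩ | ⟨⟨h1, h2⟩, e⟩
    · rw [e]; exact InX.one
    · rw [← e]
      exact InX.mul _ (gensX_mem (blt_lt h2)) (ih _ (blt_lt h1) ((blt_lt h1).trans hp))

theorem rM_zero : rM 0 = idM := by decide +kernel

theorem qM_zero : qM 0 = idM := by decide +kernel

/-- Multiplication inside the stabiliser of the plane. -/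
theorem stab_mul {a b i j : ℕ} (ha : a < 16) (hb : b < 16) (hi : i < 1080) (hj : j < 1080) :
    ∃ c < 16, ∃ k < 1080, mm (mm (qM a) (kM i)) (mm (qM b) (kM j)) = mm (qM c) (kM k) := by
  obtain ⟨d, hd, e⟩ := (inK_kM i hi).swapQ b hb
  obtain ⟨k, hk, ek⟩ := ((inK_kM i hi).comp (inK_kM j hj)).exists_idx
  have h := List.all_eq_true.1 (List.all_eq_true.1 qMul_ok a (List.mem_range.2 ha)) d
    (List.mem_range.2 hd)
  simp only [Bool.and_eq_true, beq_iff_eq] at h
  refine ⟨_, blt_lt h.1, k, hk, ?_⟩
  rw [← h.2, ← ek, mm_assoc, ← mm_assoc (kM i), e, mm_assoc, ← mm_assoc, ← mm_assoc]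

end Cert

/-- The decomposition of a linear element. -/
theorem InX.decomp {m : List ℕ} (h : InX m) :
    ∃ p < 77, ∃ a < 16, ∃ k < 1080, m = mm (rM p) (mm (qM a) (kM k)) := by
  induction h with
  | one =>
    exact ⟨0, by norm_num, 0, by norm_num, 0, by norm_num, by decide +kernel⟩
  | mul g hg hm ih =>
    obtain ⟨p, hp, a, ha, k, hk, rfl⟩ := ih
    obtain ⟨n, hn, rfl⟩ := mem_gensX hg
    have h := List.all_eq_true.1 (List.all_eq_true.1 repStep_ok n (List.mem_range.2 hn)) p
      (List.mem_range.2 hp)
    simp only [Bool.and_eq_true, beq_iff_eq] at h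
    obtain ⟨c, hc, j, hj, e⟩ := stab_mul (blt_lt h.1.1.2) ha (blt_lt h.1.2) hk
    exact ⟨_, blt_lt h.1.1.1, c, hc, j, hj, by rw [← mm_assoc, h.2, mm_assoc, e]⟩

theorem InL.sig_mul_sig : mm sig sig = idM := by
  have h := sig_ok
  simp only [Bool.and_eq_true, beq_iff_eq] at h
  exact h.2

theorem InX.sig_conj {m : List ℕ} (h : InX m) : InX (mm sig (mm m sig)) := by
  induction h with
  | one =>
    rw [InL.sig_mem.idM_mm, InL.sig_mul_sig]
    exact InX.one
  | @mul m g hg hm ih =>
    have hs : InX (mm sig (mm g sig)) := by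
      have h := sig_ok
      simp only [Bool.and_eq_true, List.all_eq_true, List.mem_range, beq_iff_eq] at h
      obtain ⟨⟨⟨h3, hU⟩, hL⟩, -⟩ := h
      simp only [List.mem_cons, List.not_mem_nil, or_false] at hg
      rcases hg with rfl | rfl | rfl | rfl | rfl
      · have := h3 0 (by norm_num)
        rw [show gensK.getD 0 noMap = kX from rfl] at this
        rw [this.2]; exact (inK_kM _ (blt_lt this.1)).inX
      · have := h3 1 (by norm_num)
        rw [show gensK.getD 1 noMap = kA from rfl] at this
        rw [this.2]; exact (inK_kM _ (blt_lt this.1)).inX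
      · have := h3 2 (by norm_num)
        rw [show gensK.getD 2 noMap = kB from rfl] at this
        rw [this.2]; exact (inK_kM _ (blt_lt this.1)).inX
      · rw [hU]; exact InX.of_gen (by simp)
      · rw [hL]; exact InX.of_gen (by simp)
    have e : mm sig (mm (mm g m) sig) = mm (mm sig (mm g sig)) (mm sig (mm m sig)) := by
      rw [mm_assoc g m sig, mm_assoc sig (mm g sig), mm_assoc g sig, ← mm_assoc sig sig,
        InL.sig_mul_sig, (hm.inL.comp InL.sig_mem).idM_mm]
    rw [e]
    exact hs.comp ih

/-- The linear part has index at most two. -/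
theorem InL.cases_sig {m : List ℕ} (h : InL m) :
    InX m ∨ ∃ x, InX x ∧ m = mm x sig := by
  induction h with
  | one => exact Or.inl InX.one
  | @mul m g hg hm ih =>
    by_cases hX : g ∈ [kX, kA, kB, qU, qL]
    · rcases ih with hx | ⟨x, hx, rfl⟩
      · exact Or.inl (InX.mul g hX hx)
      · exact Or.inr ⟨mm g x, InX.mul g hX hx, (mm_assoc g x sig).symm⟩
    · have hgs : g = sig := by
        simp only [gensL, List.mem_cons, List.not_mem_nil, or_false] at hg hX
        tauto
      subst hgs
      rcases ih with hx | ⟨x, hx, rfl⟩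
      · refine Or.inr ⟨mm sig (mm m sig), hx.sig_conj, ?_⟩
        rw [mm_assoc, mm_assoc, InL.sig_mul_sig, hx.inL.mm_idM]
      · exact Or.inl hx.sig_conj

namespace Cert

theorem mv_lt_plane {s : List ℕ} (hs : stabF s = true) :
    ∀ v < 64, mv s v < 64 := by
  simp only [stabF, List.all_eq_true, List.mem_range] at hs
  have h : ∀ i < 6, mv s (2 ^ i) < 64 := fun i hi => blt_lt (hs i hi)
  suffices ∀ k ≤ 6, ∀ v < 2 ^ k, mv s v < 64 from this 6 le_rfl
  intro k
  induction k with
  | zero =>
    intro _ v hv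
    have : v = 0 := by simpa using hv
    subst this
    simp [mv_zero]
  | succ k ih =>
    intro hk v hv
    by_cases hvk : v < 2 ^ k
    · exact ih (by omega) v hvk
    · have e : v = 2 ^ k ^^^ (v - 2 ^ k) := by
        have h1 := Nat.two_pow_add_eq_or_of_lt (i := k) (b := v - 2 ^ k)
          (by rw [pow_succ] at hv; omega) 1
        simp only [mul_one] at h1
        rw [show 2 ^ k + (v - 2 ^ k) = v by omega] at h1
        refine h1.trans ?_
        refine Nat.eq_of_testBit_eq fun i => ?_
        simp only [Nat.testBit_or, Nat.testBit_xor, Nat.testBit_two_pow]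
        by_cases hik : k = i
        · subst hik
          rw [Nat.testBit_lt_two_pow (by rw [pow_succ] at hv; omega)]
          simp
        · simp [hik]
      rw [e, mv_xor]
      exact Nat.xor_lt_two_pow (n := 6) (h k (by omega))
        (ih (by omega) _ (by rw [pow_succ] at hv; omega))

theorem plane_surj {s : List ℕ} (hL : InL s) (hs : ∀ v < 64, mv s v < 64) :
    ∀ w < 64, ∃ v < 64, mv s v = w := by
  intro w hw
  let f : Fin 64 → Fin 64 := fun v => ⟨mv s v, hs v v.2⟩
  have hinj : Function.Injective f := fun a b e => Fin.ext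
    (hL.mv_inj (lt_trans a.2 (by norm_num)) (lt_trans b.2 (by norm_num))
      (congrArg Fin.val e))
  obtain ⟨v, hv⟩ := Finite.injective_iff_surjective.1 hinj ⟨w, hw⟩
  exact ⟨v, v.2, congrArg Fin.val hv⟩

theorem stabF_mm {a b : List ℕ} (ha : stabF a = true) (hb : stabF b = true) :
    stabF (mm a b) = true := by
  simp only [stabF, List.all_eq_true, List.mem_range] at hb ⊢
  intro i hi
  rw [mv_mm]
  exact Nat.ble_eq_true_of_le (mv_lt_plane ha _ (blt_lt (hb i hi)))

theorem stabF_idM : stabF idM = true := by decide +kernel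

theorem stabF_kM {i : ℕ} (hi : i < 1080) : stabF (kM i) = true := by
  have h := stabF_ok
  simp only [Bool.and_eq_true, List.all_eq_true] at h
  have key : ∀ m, InK m → stabF m = true := fun m hm => by
    induction hm with
    | one => exact stabF_idM
    | mul g hg hm ih => exact stabF_mm (h.1.1.2 g (by simpa [gensK] using hg)) ih
  exact key _ (inK_kM i hi)

theorem stabF_qM {a : ℕ} (ha : a < 16) : stabF (qM a) = true := by
  have h := stabF_ok
  simp only [Bool.and_eq_true, List.all_eq_true] at h
  exact h.1.1.1 a (List.mem_range.2 ha)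

theorem stabF_sig : stabF sig = true := by decide +kernel

theorem stabF_stab {a k : ℕ} (ha : a < 16) (hk : k < 1080) :
    stabF (mm (qM a) (kM k)) = true := stabF_mm (stabF_qM ha) (stabF_kM hk)

theorem rep_eq_zero {p : ℕ} {s : List ℕ} (hp : p < 77) (hs : InL s) (hsF : stabF s = true)
    (h : ∀ v < 64, mv (mm (rM p) s) v < 64) : p = 0 := by
  by_contra hne
  have h' := stabF_ok
  simp only [Bool.and_eq_true, List.all_eq_true, Bool.or_eq_true] at h'
  have hb : stabF (rM p) = false := by
    rcases h'.2 p (List.mem_range.2 hp) with e | e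
    · exact absurd (Nat.eq_of_beq_eq_true e) hne
    · simpa using e
  have : stabF (rM p) = true := by
    simp only [stabF, List.all_eq_true, List.mem_range]
    intro i hi
    obtain ⟨v, hv, e⟩ := plane_surj hs (mv_lt_plane hsF) (2 ^ i)
      (Nat.pow_lt_pow_right (by norm_num) hi : 2 ^ i < 2 ^ 6)
    have h2 := h v hv
    rw [mv_mm, e] at h2
    exact Nat.ble_eq_true_of_le h2
  rw [this] at hb
  exact Bool.noConfusion hb

theorem inX_stab {a k : ℕ} (ha : a < 16) (hk : k < 1080) : InX (mm (qM a) (kM k)) :=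
  (inX_qM ha).comp (inK_kM k hk).inX

end Cert

/-- The linear elements stabilising the plane. -/
theorem InX.plane_stab {m : List ℕ} (h : InX m) (hF : ∀ v < 64, mv m v < 64) :
    ∃ a < 16, ∃ k < 1080, m = mm (qM a) (kM k) := by
  obtain ⟨p, hp, a, ha, k, hk, rfl⟩ := h.decomp
  obtain rfl := rep_eq_zero hp (inX_stab ha hk).inL (stabF_stab ha hk) hF
  exact ⟨a, ha, k, hk, by rw [rM_zero, (inX_stab ha hk).inL.idM_mm]⟩

/-- The elements stabilising the plane. -/
theorem InL.plane_stab {m : List ℕ} (h : InL m) (hF : ∀ v < 64, mv m v < 64) :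
    ∃ a < 16, ∃ k < 1080, m = mm (qM a) (kM k) ∨ m = mm (mm (qM a) (kM k)) sig := by
  rcases h.cases_sig with hx | ⟨x, hx, rfl⟩
  · obtain ⟨a, ha, k, hk, e⟩ := hx.plane_stab hF
    exact ⟨a, ha, k, hk, Or.inl e⟩
  · have hF' : ∀ v < 64, mv x v < 64 := fun v hv => by
      obtain ⟨w, hw, e⟩ := plane_surj InL.sig_mem (mv_lt_plane stabF_sig) v hv
      have := hF w hw
      rwa [mv_mm, e] at this
    obtain ⟨a, ha, k, hk, rfl⟩ := hx.plane_stab hF'
    exact ⟨a, ha, k, hk, Or.inr rfl⟩

/-- The pointwise stabiliser of the plane in the linear part is the upper radical. -/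
theorem InX.plane_fix {m : List ℕ} (h : InX m) (hF : ∀ v < 64, mv m v = v) :
    ∃ a < 16, m = qM a := by
  obtain ⟨a, ha, k, hk, rfl⟩ := h.plane_stab fun v hv => (hF v hv).symm ▸ hv
  refine ⟨a, ha, ?_⟩
  suffices k = 0 by rw [this, kM_zero, (inX_qM ha).inL.mm_idM]
  by_contra hne
  have h' := List.all_eq_true.1 kFaith_ok k (List.mem_range.2 hk)
  simp only [Bool.or_eq_true, List.any_eq_true, List.mem_range] at h'
  rcases h' with e | ⟨b, hb, e⟩
  · exact hne (Nat.eq_of_beq_eq_true e)
  · have hb' : 2 ^ b < 2 ^ 6 := Nat.pow_lt_pow_right (by norm_num) hb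
    have h1 := hF (2 ^ b) hb'
    have hlt : mv (kM k) (2 ^ b) < 64 := mv_lt_plane (stabF_kM hk) _ hb'
    rw [mv_mm] at h1
    have hq : ∀ v < 64, mv (qM a) v = v := by
      have h2 := List.all_eq_true.1 qFix_ok a (List.mem_range.2 ha)
      simp only [List.all_eq_true, List.mem_range] at h2
      intro v hv
      suffices ∀ k ≤ 6, ∀ v < 2 ^ k, mv (qM a) v = v from this 6 le_rfl v hv
      intro n
      induction n with
      | zero =>
        intro _ v hv
        have : v = 0 := by simpa using hv
        subst this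
        simp [mv_zero]
      | succ n ih =>
        intro hn v hv
        by_cases hvn : v < 2 ^ n
        · exact ih (by omega) v hvn
        · have e' : v = 2 ^ n ^^^ (v ^^^ 2 ^ n) := by
            rw [Nat.xor_comm v, xor_cancel_left']
          have hlt' : v ^^^ 2 ^ n < 2 ^ n := by
            refine Nat.lt_pow_two_of_testBit _ fun i hi => ?_
            rcases eq_or_lt_of_le hi with rfl | hlt
            · have : v.testBit n = true := by
                by_contra hc
                refine hvn (Nat.lt_pow_two_of_testBit _ fun j hj => ?_)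
                rcases eq_or_lt_of_le hj with rfl | hj'
                · simpa using hc
                · exact Nat.testBit_lt_two_pow
                    (lt_of_lt_of_le hv (Nat.pow_le_pow_right (by norm_num) hj'))
              simp [Nat.testBit_xor, this, Nat.testBit_two_pow_self]
            · rw [Nat.testBit_xor, Nat.testBit_lt_two_pow
                (lt_of_lt_of_le hv (Nat.pow_le_pow_right (by norm_num) hlt)),
                Nat.testBit_two_pow]
              simp [Nat.ne_of_lt hlt]
          rw [e', mv_xor, Nat.eq_of_beq_eq_true (h2 n (by omega)), ih (by omega) _ hlt']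
    rw [hq _ hlt] at h1
    simp [h1] at e

namespace Cert

/-- An upper bound for the order of the group. -/
theorem card_LGrp_le : Nat.card LGrp ≤ 2661120 := by
  let f : Fin 77 × Fin 16 × Fin 1080 × Bool → LGrp := fun x =>
    if x.2.2.2 then
      ⟨mm (mm (rM x.1) (mm (qM x.2.1) (kM x.2.2.1))) sig,
        ((inX_rM _ x.1.2).comp (inX_stab x.2.1.2 x.2.2.1.2)).inL.comp InL.sig_mem⟩
    else ⟨mm (rM x.1) (mm (qM x.2.1) (kM x.2.2.1)),
        ((inX_rM _ x.1.2).comp (inX_stab x.2.1.2 x.2.2.1.2)).inL⟩
  have hf : Function.Surjective f := fun m => by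
    rcases m.2.cases_sig with hx | ⟨x, hx, e⟩
    · obtain ⟨p, hp, a, ha, k, hk, e⟩ := hx.decomp
      exact ⟨(⟨p, hp⟩, ⟨a, ha⟩, ⟨k, hk⟩, false), Subtype.ext e.symm⟩
    · obtain ⟨p, hp, a, ha, k, hk, rfl⟩ := hx.decomp
      exact ⟨(⟨p, hp⟩, ⟨a, ha⟩, ⟨k, hk⟩, true), Subtype.ext e.symm⟩
  refine (Nat.card_le_card_of_surjective f hf).trans ?_
  simp

end Cert

end CfsgLib.J4Type
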