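import Cfsg.Agent.Lib.J4Type.Cert.Perp

/-!
The matrices in `InL` form a finite group `LGrp`; the linear ones form its subgroup `xGrp`.
-/

set_option autoImplicit false

namespace CfsgLib.J4Type

open Cert

theorem InL.mm_idM {m : List ℕ} (h : InL m) : mm m idM = m := by
  have hl : (mm m idM).length = 12 := by rw [length_mm]; rfl
  refine ext_mv (by rw [hl, h.len]) fun i hi => ?_
  have hi' : i < 12 := by omega
  rw [mv_mm, Cert.mv_idM (Nat.pow_lt_pow_right (by norm_num) hi' : 2 ^ i < 2 ^ 12)]

theorem InL.idM_mm {m : List ℕ} (h : InL m) : mm idM m = m :=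
  (List.map_congr_left fun x hx => Cert.mv_idM (h.lt x hx)).trans (List.map_id m)

theorem InL.ext {a b : List ℕ} (ha : InL a) (hb : InL b)
    (h : ∀ v < 4096, mv a v = mv b v) : a = b := by
  refine ext_mv (by rw [ha.len, hb.len]) fun i hi => h _ ?_
  exact (Nat.pow_lt_pow_right (by norm_num) (ha.len ▸ hi) : 2 ^ i < 2 ^ 12)

theorem InX.inL {m : List ℕ} (h : InX m) : InL m := by
  induction h with
  | one => exact InL.one
  | mul g hg hm ih =>
    refine InL.mul g ?_ ih
    simp only [gensL, List.mem_cons, List.not_mem_nil, or_false] at hg ⊢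
    tauto

theorem InX.comp {a b : List ℕ} (ha : InX a) (hb : InX b) : InX (mm a b) := by
  induction ha with
  | one => rwa [hb.inL.idM_mm]
  | mul g hg hm ih =>
    rw [mm_assoc]
    exact InX.mul g hg ih

theorem InK.inX {m : List ℕ} (h : InK m) : InX m := by
  induction h with
  | one => exact InX.one
  | mul g hg hm ih =>
    refine InX.mul g ?_ ih
    simp only [List.mem_cons, List.not_mem_nil, or_false] at hg ⊢
    tauto

theorem InK.comp {a b : List ℕ} (ha : InK a) (hb : InK b) : InK (mm a b) := by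
  induction ha with
  | one => rwa [hb.inX.inL.idM_mm]
  | mul g hg hm ih =>
    rw [mm_assoc]
    exact InK.mul g hg ih

theorem InX.of_gen {g : List ℕ} (hg : g ∈ [kX, kA, kB, qU, qL]) : InX g := by
  have h := InX.mul g hg InX.one
  have hL : InL g := InL.of_gen (by
    simp only [gensL, List.mem_cons, List.not_mem_nil, or_false] at hg ⊢
    tauto)
  rwa [hL.mm_idM] at h

theorem InX.qU_mem : InX qU := InX.of_gen (by simp)

theorem InL.sig_mem : InL sig := InL.of_gen (by simp [gensL])

namespace Cert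

/-- The group of the matrices in `InL`. -/
def LGrp : Type := {m : List ℕ // InL m}

namespace LGrp

@[ext] theorem ext {a b : LGrp} (h : a.1 = b.1) : a = b := Subtype.ext h

/-- The action on vectors. -/
def act (a : LGrp) (v : ℕ) : ℕ := mv a.1 v

noncomputable instance : Monoid LGrp where
  mul a b := ⟨mm a.1 b.1, a.2.comp b.2⟩
  one := ⟨idM, InL.one⟩
  mul_assoc a b c := Subtype.ext (mm_assoc a.1 b.1 c.1)
  one_mul a := Subtype.ext a.2.idM_mm
  mul_one a := Subtype.ext a.2.mm_idM

theorem val_mul (a b : LGrp) : (a * b).1 = mm a.1 b.1 := rfl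

theorem val_one : (1 : LGrp).1 = idM := rfl

instance : Finite LGrp := by
  refine Finite.of_injective (β := Fin 12 → Fin 4096)
    (fun m i => ⟨mv m.1 (2 ^ (i : ℕ)), m.2.mv_lt _⟩) fun a b h => ?_
  refine Subtype.ext (ext_mv (by rw [a.2.len, b.2.len]) fun i hi => ?_)
  have := congrFun h ⟨i, a.2.len ▸ hi⟩
  simpa [Fin.ext_iff] using this

theorem mul_left_cancel' (a b c : LGrp) (h : a * b = a * c) : b = c := by
  refine Subtype.ext (b.2.ext c.2 fun v hv => a.2.mv_inj (b.2.mv_lt v) (c.2.mv_lt v) ?_)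
  rw [← mv_mm, ← mv_mm, ← val_mul, ← val_mul, h]

theorem exists_inv (a : LGrp) : ∃ b : LGrp, b * a = 1 := by
  obtain ⟨m, n, hne, e⟩ := Finite.exists_ne_map_eq_of_infinite (fun k : ℕ => a ^ k)
  have key : ∀ m n, m < n → a ^ m = a ^ n → ∃ b : LGrp, b * a = 1 := by
    intro m n hmn e
    refine ⟨a ^ (n - m - 1), ?_⟩
    rw [← pow_succ]
    refine (mul_left_cancel' (a ^ m) _ _ ?_)
    rw [mul_one, ← pow_add, show m + (n - m - 1 + 1) = n by omega]
    exact e.symm
  rcases Nat.lt_or_gt_of_ne hne with h | h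
  · exact key m n h e
  · exact key n m h e.symm

noncomputable instance : Inv LGrp := ⟨fun a => Classical.choose (exists_inv a)⟩

noncomputable instance : Group LGrp :=
  { (inferInstance : Monoid LGrp), (inferInstance : Inv LGrp) with
    inv_mul_cancel := fun a => Classical.choose_spec (exists_inv a) }

theorem act_mul (a b : LGrp) (v : ℕ) : (a * b).act v = a.act (b.act v) := mv_mm a.1 b.1 v

theorem act_one {v : ℕ} (hv : v < 4096) : (1 : LGrp).act v = v := Cert.mv_idM hv

theorem act_inv (a : LGrp) {v : ℕ} (hv : v < 4096) : (a⁻¹).act (a.act v) = v := by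
  rw [← act_mul, inv_mul_cancel, act_one hv]

theorem act_inv' (a : LGrp) {v : ℕ} (hv : v < 4096) : a.act ((a⁻¹).act v) = v := by
  rw [← act_mul, mul_inv_cancel, act_one hv]

/-- A generator as an element of the group. -/
def gen (g : List ℕ) (hg : g ∈ gensL) : LGrp := ⟨g, InL.of_gen hg⟩

/-- The subgroup of the linear elements. -/
noncomputable def xGrp : Subgroup LGrp where
  carrier := {a | InX a.1}
  mul_mem' := fun {a b} ha hb => ha.comp hb
  one_mem' := InX.one
  inv_mem' := fun {a} ha => by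
    have hpow : ∀ k : ℕ, InX (a ^ k).1 := by
      intro k
      induction k with
      | zero => exact InX.one
      | succ k ih => rw [pow_succ, val_mul]; exact ih.comp ha
    obtain ⟨m, hm⟩ := (isOfFinOrder_of_finite a).mem_powers_iff_mem_zpowers.2
      (Subgroup.mem_zpowers_iff.2 ⟨-1, by simp⟩ : a⁻¹ ∈ Subgroup.zpowers a)
    change a ^ m = a⁻¹ at hm
    show InX (a⁻¹).1
    rw [← hm]
    exact hpow m

theorem mem_xGrp {a : LGrp} : a ∈ xGrp ↔ InX a.1 := Iff.rfl

end LGrp

end Cert

theorem InX.exists_inv {m : List ℕ} (h : InX m) :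
    ∃ m', InX m' ∧ mm m' m = idM ∧ mm m m' = idM := by
  let a : LGrp := ⟨m, h.inL⟩
  have ha : a ∈ LGrp.xGrp := h
  exact ⟨(a⁻¹).1, LGrp.xGrp.inv_mem ha, congrArg Subtype.val (inv_mul_cancel a),
    congrArg Subtype.val (mul_inv_cancel a)⟩

end CfsgLib.J4Type
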