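import Cfsg.Agent.Lib.J4Type.Cert.ListGrp
import Cfsg.Agent.Lib.J4Type.Cert.SixData

/-!
The centraliser of the element of the upper radical `qU`, and the stabiliser in it of a class of
singular fixed vectors outside the plane.
-/

set_option autoImplicit false
set_option maxRecDepth 10000

namespace CfsgLib.J4Type.Cert

/-- Membership of a difference in the commutators with `qU`. -/
def inIm (x : ℕ) : Prop := ∃ w < 4096, mv qU w ^^^ w = x

/-- The element `qU` of the group. -/
noncomputable def tU : LGrp := LGrp.gen qU (by simp [gensL])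

theorem val_tU : tU.1 = qU := rfl

theorem im_ok : ((List.range 4096).all fun w => sixImMask.testBit (mv qU w ^^^ w)) = true := by
  decide +kernel

theorem im_ok' : ((List.range 64).all fun x => !sixImMask.testBit x ||
    (List.range 4096).any fun w => Nat.beq (mv qU w ^^^ w) x) = true := by
  decide +kernel

theorem im_small : Nat.blt sixImMask (2 ^ 64) = true := by decide +kernel

theorem inIm_iff {x : ℕ} : inIm x ↔ sixImMask.testBit x = true := by
  constructor
  · rintro ⟨w, hw, rfl⟩
    exact List.all_eq_true.1 im_ok w (List.mem_range.2 hw)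
  · intro h
    have hx : x < 64 := by
      by_contra hx
      rw [Nat.testBit_lt_two_pow (lt_of_lt_of_le (blt_lt im_small)
        (Nat.pow_le_pow_right (by norm_num) (not_lt.1 hx)))] at h
      exact Bool.noConfusion h
    have h' := List.all_eq_true.1 im_ok' x (List.mem_range.2 hx)
    simp only [h, Bool.not_true, Bool.false_or, List.any_eq_true, List.mem_range] at h'
    obtain ⟨w, hw, e⟩ := h'
    exact ⟨w, hw, Nat.eq_of_beq_eq_true e⟩

theorem inIm_zero : inIm 0 := ⟨0, by norm_num, by rw [mv_zero]; rfl⟩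

theorem inIm_xor {x y : ℕ} (hx : inIm x) (hy : inIm y) : inIm (x ^^^ y) := by
  obtain ⟨v, hv, rfl⟩ := hx
  obtain ⟨w, hw, rfl⟩ := hy
  refine ⟨v ^^^ w, Nat.xor_lt_two_pow (n := 12) hv hw, ?_⟩
  rw [mv_xor]
  ac_rfl

theorem inIm_mv {g : List ℕ} (hg : InL g) (hc : mm g qU = mm qU g) {x : ℕ} (hx : inIm x) :
    inIm (mv g x) := by
  obtain ⟨w, hw, rfl⟩ := hx
  exact ⟨mv g w, hg.mv_lt w, by rw [mv_xor, ← mv_mm qU g, ← hc, mv_mm]⟩

theorem rep_fix_ok : ((List.range 77).all fun p => Nat.beq p 0 ||
    (List.range 6).any fun i => !Nat.beq (mv qU (mv (rM p) (2 ^ i))) (mv (rM p) (2 ^ i))) = true := by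
  decide +kernel

theorem qU_fix_ok : ((List.range 64).all fun v => Nat.beq (mv qU v) v) = true := by
  decide +kernel

theorem qU_fix {v : ℕ} (hv : v < 64) : mv qU v = v :=
  Nat.eq_of_beq_eq_true (List.all_eq_true.1 qU_fix_ok v (List.mem_range.2 hv))

/-- An element commuting with `qU` stabilises the plane. -/
theorem comm_qU_stab {m : List ℕ} (hm : InL m) (hc : mm m qU = mm qU m) :
    ∀ v < 64, mv m v < 64 := by
  have hfix : ∀ v < 64, mv qU (mv m v) = mv m v := fun v hv => by
    rw [← mv_mm, ← hc, mv_mm, qU_fix hv]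
  have key : ∀ x, InX x → ∀ s, InL s → stabF s = true → m = mm x s →
      ∀ v < 64, mv m v < 64 := by
    intro x hx s hs hsF hms
    obtain ⟨p, hp, a, ha, k, hk, rfl⟩ := hx.decomp
    have hS : InL (mm (mm (qM a) (kM k)) s) := (inX_stab ha hk).inL.comp hs
    have hSF := stabF_mm (stabF_stab ha hk) hsF
    have hme : m = mm (rM p) (mm (mm (qM a) (kM k)) s) := by rw [hms, mm_assoc]
    have hp0 : p = 0 := by
      by_contra hne
      have h := List.all_eq_true.1 rep_fix_ok p (List.mem_range.2 hp)
      simp only [Bool.or_eq_true, List.any_eq_true, List.mem_range] at h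
      rcases h with e | ⟨i, hi, e⟩
      · exact hne (Nat.eq_of_beq_eq_true e)
      · obtain ⟨v, hv, ev⟩ := plane_surj hS (mv_lt_plane hSF) (2 ^ i)
          (Nat.pow_lt_pow_right (by norm_num) hi : 2 ^ i < 2 ^ 6)
        have h2 := hfix v hv
        rw [hme, mv_mm, ev] at h2
        simp [h2] at e
    subst hp0
    intro v hv
    rw [hme, rM_zero, hS.idM_mm]
    exact mv_lt_plane hSF v hv
  rcases hm.cases_sig with hx | ⟨x, hx, e⟩
  · exact key m hx idM InL.one stabF_idM hm.mm_idM.symm
  · exact key x hx sig InL.sig_mem stabF_sig e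

theorem six_len : sixS0Els.length = 384 ∧ sixS1Els.length = 128 ∧ sixS2Els.length = 128 := by
  decide +kernel

theorem sixS0_ok : tableOK sixS0Code sixS0Els sixS0Par sixS0Step = true := by decide +kernel

theorem sixS0_in : (sixS0Els.all fun m => mm m qU == mm qU m &&
    sixImMask.testBit (mv m 64 ^^^ 64)) = true := by
  decide +kernel

theorem qM_qU : qM 14 = qU := by decide +kernel

theorem qM_comm {a : ℕ} (ha : a < 16) : mm (qM a) qU = mm qU (qM a) := by
  have h : ((List.range 16).all fun b => mm (qM b) qU == mm qU (qM b)) = true := by decide +kernel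
  simpa using List.all_eq_true.1 h a (List.mem_range.2 ha)

/-- The Levi element with or without the semilinear involution. -/
def kSig (k : ℕ) (e : Bool) : List ℕ := bif e then mm (kM k) sig else kM k

theorem six_scan_ok : ((List.range 1080).all fun k => [false, true].all fun e =>
    !(mm (kSig k e) qU == mm qU (kSig k e)) || (List.range 16).all fun a =>
      !sixImMask.testBit (mv (mm (qM a) (kSig k e)) 64 ^^^ 64) ||
        sixS0Els.elem (mm (qM a) (kSig k e))) = true := by
  decide +kernel

theorem mem_six_of {m : List ℕ} (hm : InL m) (hc : mm m qU = mm qU m)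
    (him : inIm (mv m 64 ^^^ 64)) : m ∈ sixS0Els := by
  obtain ⟨a, ha, k, hk, he⟩ := hm.plane_stab (comm_qU_stab hm hc)
  have key : ∀ e : Bool, m = mm (qM a) (kSig k e) → m ∈ sixS0Els := by
    intro e hme
    have hks : InL (kSig k e) := by
      cases e
      · exact (inK_kM k hk).inX.inL
      · exact (inK_kM k hk).inX.inL.comp InL.sig_mem
    have hc' : mm (kSig k e) qU = mm qU (kSig k e) := by
      refine (hks.comp InX.qU_mem.inL).ext (InX.qU_mem.inL.comp hks) fun v hv => ?_
      refine (inX_qM ha).inL.mv_inj ((hks.comp InX.qU_mem.inL).mv_lt v)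
        ((InX.qU_mem.inL.comp hks).mv_lt v) ?_
      rw [← mv_mm, ← mv_mm, ← mm_assoc, ← hme, hc, hme, ← mm_assoc, ← qM_comm ha, mm_assoc]
    have h := List.all_eq_true.1 (List.all_eq_true.1 six_scan_ok k (List.mem_range.2 hk)) e
      (by cases e <;> simp)
    simp only [hc', beq_self_eq_true, Bool.not_true, Bool.false_or, List.all_eq_true,
      List.mem_range, Bool.or_eq_true, Bool.not_eq_true', List.elem_iff] at h
    rcases h a ha with e' | e'
    · rw [← hme, inIm_iff.1 him] at e'
      exact Bool.noConfusion e'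
    · rwa [hme]
  rcases he with e | e
  · exact key false e
  · exact key true (by rw [e, kSig, cond_true, mm_assoc])

/-- The stabiliser in the centraliser of `qU` of the class of the vector 64. -/
theorem exists_six_stab : ∃ I : Subgroup LGrp, Nat.card I = 2 ^ 7 * 3 ∧
    (∀ g : LGrp, g ∈ I ↔ g.1 ∈ sixS0Els) ∧
    ∀ g : LGrp, g ∈ I ↔ g * tU = tU * g ∧ inIm (g.act 64 ^^^ 64) := by
  obtain ⟨I, hI, hmem⟩ := exists_subgroup_of_table sixS0_ok
  refine ⟨I, by rw [hI, six_len.1]; norm_num, hmem, fun g => ⟨fun hg => ?_, ?_⟩⟩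
  · have h := List.all_eq_true.1 sixS0_in _ ((hmem g).1 hg)
    simp only [Bool.and_eq_true, beq_iff_eq] at h
    exact ⟨LGrp.ext h.1, inIm_iff.2 h.2⟩
  · rintro ⟨hc, him⟩
    exact (hmem g).2 (mem_six_of g.2 (congrArg Subtype.val hc) him)

end CfsgLib.J4Type.Cert
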