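import Cfsg.Agent.Lib.J4Type.Cert.PlaneFix
import Cfsg.Agent.Lib.J4Type.Cert.PairData
import Cfsg.Agent.Lib.J4Type.Cert.SixStab

/-!
An elementary subgroup of order sixteen of the linear part with more than four common fixed vectors
is the pointwise stabiliser of one of the images of the plane.
-/

set_option autoImplicit false
set_option maxRecDepth 10000

namespace CfsgLib.J4Type.Cert

/-- A matrix of the table of commuting involutions. -/
def comM (i : ℕ) : List ℕ := comEls.getD i noMap

/-- A product in that table. -/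
def comMul (i j : ℕ) : ℕ := (comProd.getD i []).getD j 52

/-- A conjugator in decomposed form. -/
def invR (n : ℕ) : ℕ × ℕ × ℕ × ℕ :=
  ((invConj.getD n (0, 0, 0)).1, (invConj.getD n (0, 0, 0)).2.1, (invConj.getD n (0, 0, 0)).2.2, 0)

theorem k2_ok : ((List.range 1080).all fun k =>
    !((List.range 6).all fun b => Nat.beq (mv (kM k) (mv (kM k) (2 ^ b))) (2 ^ b)) ||
      k2List.elem k) = true := by
  decide +kernel

theorem inv_list_ok : (k2List.all fun k => (List.range 16).all fun a =>
    !(mm (mm (qM a) (kM k)) (mm (qM a) (kM k)) == idM) || mm (qM a) (kM k) == idM ||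
      invList.elem (a, k)) = true := by
  decide +kernel

/-- The conjugator as a map. -/
def invRM (n : ℕ) : List ℕ := mm (rM (invR n).1) (mm (qM (invR n).2.1) (kM (invR n).2.2.1))

theorem invConj_ok : ((List.range invList.length).all fun n =>
    Nat.blt (invR n).1 77 && Nat.blt (invR n).2.1 16 && Nat.blt (invR n).2.2.1 1080 &&
      mm (mm (qM (invList.getD n (0, 0)).1) (kM (invList.getD n (0, 0)).2)) (invRM n) ==
        mm (invRM n) qU) = true := by
  decide +kernel

theorem comList_ok : ((List.range invList.length).all fun n =>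
    !(mm (mm (qM (invList.getD n (0, 0)).1) (kM (invList.getD n (0, 0)).2)) qU ==
      mm qU (mm (qM (invList.getD n (0, 0)).1) (kM (invList.getD n (0, 0)).2))) ||
      comList.elem (invList.getD n (0, 0))) = true := by
  decide +kernel

theorem comEls_ok : (Nat.beq comList.length 52 && comList.getD 0 (1, 1) == (0, 0) &&
    comM comT == qU && Nat.blt comT 52 && (List.range 52).all fun i =>
      Nat.blt (comList.getD i (0, 0)).1 16 && Nat.blt (comList.getD i (0, 0)).2 1080 &&
      mm (qM (comList.getD i (0, 0)).1) (kM (comList.getD i (0, 0)).2) == comM i &&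
      (List.range i).all fun j => !(comM i == comM j)) = true := by
  decide +kernel

theorem comProd_ok : ((List.range 52).all fun i => (List.range 52).all fun j =>
    bif Nat.beq (comMul i j) 52 then !(mm (comM i) (comM j) == mm (comM j) (comM i))
    else Nat.blt (comMul i j) 52 && mm (comM i) (comM j) == comM (comMul i j)) = true := by
  decide +kernel

theorem comFix_ok : ((List.range 4096).all fun v => !(Nat.beq (mv qU v) v) ||
    (List.range 52).all fun i => !(Nat.beq (mv (comM i) v) v) || (comFix.getD i 0).testBit v)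
      = true := by
  decide +kernel

/-- Whether a bit mask is contained in one of the small fixed sets. -/
def isSmall (x : ℕ) : Bool :=
  comSmall.any fun s => Nat.beq (x ||| s.foldl (fun m v => m ||| 2 ^ v) 0)
    (s.foldl (fun m v => m ||| 2 ^ v) 0)

/-- The position of a product in the span of four. -/
def spanHas (b c d : ℕ) : Bool :=
  Nat.beq d 0 || Nat.beq d comT || Nat.beq d b || Nat.beq d (comMul comT b) || Nat.beq d c ||
    Nat.beq d (comMul comT c) || Nat.beq d (comMul b c) || Nat.beq d (comMul comT (comMul b c))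

theorem triple_ok : ((List.range 52).all fun b => Nat.beq b 0 || Nat.beq b comT ||
    Nat.beq (comList.getD b (0, 0)).2 0 ||
    (List.range 52).all fun c => Nat.beq (comMul b c) 52 || Nat.beq c 0 || Nat.beq c comT ||
      Nat.beq c b || Nat.beq c (comMul comT b) ||
      (List.range 52).all fun d => Nat.beq (comMul b d) 52 || Nat.beq (comMul c d) 52 ||
        spanHas b c d ||
        isSmall (comFix.getD b 0 &&& comFix.getD c 0 &&& comFix.getD d 0)) = true := by
  decide +kernel

theorem comSmall_ok : (comSmall.all fun s => Nat.ble s.length 4) = true := by decide +kernel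

theorem qFixSet_ok : ((List.range 4096).all fun v =>
    Nat.blt v 64 || (List.range 16).any fun a => !(Nat.beq (mv (qM a) v) v)) = true := by
  decide +kernel

/-- The common fixed vectors of a subgroup. -/
noncomputable def fixSet (A : Subgroup LGrp) : Finset ℕ :=
  letI : DecidablePred fun v : ℕ => ∀ a ∈ A, a.act v = v := Classical.decPred _
  (Finset.range 4096).filter fun v => ∀ a ∈ A, a.act v = v

theorem mem_fixSet {A : Subgroup LGrp} {v : ℕ} :
    v ∈ fixSet A ↔ v < 4096 ∧ ∀ a ∈ A, a.act v = v := by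
  simp [fixSet]

theorem testBit_foldl_two_pow : ∀ (l : List ℕ) (m v : ℕ),
    (l.foldl (fun m i => m ||| 2 ^ i) m).testBit v = true → m.testBit v = true ∨ v ∈ l
  | [], m, v, h => Or.inl h
  | x :: l, m, v, h => by
    rcases testBit_foldl_two_pow l _ v h with h' | h'
    · rw [Nat.testBit_or, Bool.or_eq_true] at h'
      rcases h' with h' | h'
      · exact Or.inl h'
      · rw [Nat.testBit_two_pow, decide_eq_true_iff] at h'
        exact Or.inr (h' ▸ List.mem_cons_self)
    · exact Or.inr (List.mem_cons_of_mem _ h')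

theorem qM_fix_ok : ((List.range 16).all fun a => (List.range 64).all fun v =>
    Nat.beq (mv (qM a) v) v) = true := by
  decide +kernel

theorem qM_fix {a : ℕ} (ha : a < 16) {v : ℕ} (hv : v < 64) : mv (qM a) v = v :=
  Nat.eq_of_beq_eq_true (List.all_eq_true.1 (List.all_eq_true.1 qM_fix_ok a (List.mem_range.2 ha))
    v (List.mem_range.2 hv))

/-- The involutions of the linear stabiliser of the plane are in the list. -/
theorem exists_inv_idx {x : LGrp} (hx : x ∈ LGrp.xGrp) (hne : x ≠ 1) (h2 : x * x = 1)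
    (hF : ∀ v < 64, x.act v < 64) : ∃ n < invList.length,
      mm (qM (invList.getD n (0, 0)).1) (kM (invList.getD n (0, 0)).2) = x.1 := by
  obtain ⟨a, ha, k, hk, e⟩ := InX.plane_stab (show InX x.1 from hx) hF
  have h2' : mm x.1 x.1 = idM := congrArg Subtype.val h2
  have hk2 : k ∈ k2List := by
    have h := List.all_eq_true.1 k2_ok k (List.mem_range.2 hk)
    simp only [Bool.or_eq_true, Bool.not_eq_true', List.elem_iff] at h
    rcases h with h | h
    · exfalso
      rw [List.all_eq_false] at h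
      obtain ⟨b, hb, hb'⟩ := h
      have hlt : 2 ^ b < 64 :=
        (Nat.pow_lt_pow_right (by norm_num) (List.mem_range.1 hb) : 2 ^ b < 2 ^ 6)
      have h1 : mv x.1 (mv x.1 (2 ^ b)) = 2 ^ b := by
        rw [← mv_mm, h2', mv_idM (lt_trans hlt (by norm_num))]
      have hk1 := mv_lt_plane (stabF_kM hk) _ hlt
      rw [e, mv_mm, mv_mm, qM_fix ha hk1, qM_fix ha (mv_lt_plane (stabF_kM hk) _ hk1)] at h1
      simp [h1] at hb'
    · exact h
  have h := List.all_eq_true.1 (List.all_eq_true.1 inv_list_ok k hk2) a (List.mem_range.2 ha)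
  simp only [Bool.or_eq_true, Bool.not_eq_true', List.elem_iff, ← e, h2', beq_self_eq_true,
    Bool.true_eq_false, false_or, beq_iff_eq] at h
  rcases h with h | h
  · exact absurd (LGrp.ext h) hne
  · obtain ⟨n, hn, en⟩ := mem_getD (0, 0) h
    exact ⟨n, hn, by rw [en, e]⟩

/-- An involution of the linear stabiliser of the plane is conjugate to `tU`. -/
theorem exists_conj_tU {x : LGrp} (hx : x ∈ LGrp.xGrp) (hne : x ≠ 1) (h2 : x * x = 1)
    (hF : ∀ v < 64, x.act v < 64) : ∃ R ∈ LGrp.xGrp, x * R = R * tU := by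
  obtain ⟨n, hn, hnk⟩ := exists_inv_idx hx hne h2 hF
  have h := List.all_eq_true.1 invConj_ok n (List.mem_range.2 hn)
  simp only [Bool.and_eq_true, beq_iff_eq] at h
  have hX : InX (invRM n) := (inX_rM _ (blt_lt h.1.1.1)).comp
    (inX_stab (blt_lt h.1.1.2) (blt_lt h.1.2))
  refine ⟨⟨invRM n, hX.inL⟩, hX, LGrp.ext ?_⟩
  show mm x.1 (invRM n) = mm (invRM n) qU
  rw [← h.2, hnk]

/-- The facts recorded with the table of commuting involutions. -/
theorem com_spec {i : ℕ} (hi : i < 52) :
    (comList.getD i (0, 0)).1 < 16 ∧ (comList.getD i (0, 0)).2 < 1080 ∧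
      mm (qM (comList.getD i (0, 0)).1) (kM (comList.getD i (0, 0)).2) = comM i ∧
      ∀ j < i, comM i ≠ comM j := by
  have hcl := comEls_ok
  simp only [Bool.and_eq_true, List.all_eq_true, List.mem_range, beq_iff_eq,
    Bool.not_eq_true', beq_eq_false_iff_ne] at hcl
  obtain ⟨⟨⟨h1, h2⟩, h3⟩, h4⟩ := hcl.2 i hi
  exact ⟨blt_lt h1, blt_lt h2, h3, h4⟩

theorem comM_inj {i j : ℕ} (hi : i < 52) (hj : j < 52) (e : comM i = comM j) : i = j := by
  rcases Nat.lt_trichotomy i j with hl | he | hl
  · exact absurd e.symm ((com_spec hj).2.2.2 i hl)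
  · exact he
  · exact absurd e ((com_spec hi).2.2.2 j hl)

theorem comM_zero : comM 0 = idM := by decide +kernel

theorem comM_T : comM comT = qU ∧ comT < 52 := by
  have hcl := comEls_ok
  simp only [Bool.and_eq_true, beq_iff_eq] at hcl
  exact ⟨hcl.1.1.2, blt_lt hcl.1.2⟩

/-- A linear involution commuting with `qU` appears in the table. -/
theorem exists_com_idx {x : LGrp} (hx : x ∈ LGrp.xGrp) (h2 : x * x = 1)
    (hc : x * tU = tU * x) : ∃ i < 52, comM i = x.1 := by
  by_cases hne : x = 1
  · subst hne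
    exact ⟨0, by norm_num, comM_zero⟩
  have hc' : mm x.1 qU = mm qU x.1 := congrArg Subtype.val hc
  obtain ⟨n, hn, en⟩ := exists_inv_idx hx hne h2 (comm_qU_stab x.2 hc')
  have h := List.all_eq_true.1 comList_ok n (List.mem_range.2 hn)
  simp only [en, hc', beq_self_eq_true, Bool.not_true, Bool.false_or, List.elem_iff] at h
  obtain ⟨i, hi, ei⟩ := mem_getD (0, 0) h
  have hlen : comList.length = 52 := by decide +kernel
  rw [hlen] at hi
  exact ⟨i, hi, by rw [← (com_spec hi).2.2.1, ei, en]⟩

theorem comMul_spec {x y : LGrp} {i j : ℕ} (hi : i < 52) (hj : j < 52) (ei : comM i = x.1)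
    (ej : comM j = y.1) (hxy : x * y = y * x) :
    comMul i j < 52 ∧ comM (comMul i j) = (x * y).1 := by
  have h := List.all_eq_true.1 (List.all_eq_true.1 comProd_ok i (List.mem_range.2 hi)) j
    (List.mem_range.2 hj)
  have hc : mm (comM i) (comM j) = mm (comM j) (comM i) := by
    rw [ei, ej]; exact congrArg Subtype.val hxy
  cases hb : Nat.beq (comMul i j) 52
  · simp only [hb, cond_false, Bool.and_eq_true, beq_iff_eq] at h
    exact ⟨blt_lt h.1, by rw [← h.2, ei, ej]; rfl⟩
  · simp [hb, hc] at h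

/-- An elementary subgroup of order sixteen containing `qU` with more than four fixed vectors lies
in the upper radical. -/
theorem mem_radical_of_elementary {A : Subgroup LGrp} (hX : A ≤ LGrp.xGrp)
    (hA : Nat.card A = 16) (hexp : ∀ a ∈ A, a * a = 1) (ht : tU ∈ A)
    (hfix : 4 < (fixSet A).card) : ∀ a ∈ A, ∃ i < 16, a.1 = qM i := by
  have hcomm : ∀ a ∈ A, ∀ b ∈ A, a * b = b * a := fun a ha b hb => by
    calc a * b = (a * b)⁻¹ := eq_inv_of_mul_eq_one_left (hexp _ (mul_mem ha hb))
      _ = b⁻¹ * a⁻¹ := mul_inv_rev a b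
      _ = b * a := by
        rw [← eq_inv_of_mul_eq_one_left (hexp a ha), ← eq_inv_of_mul_eq_one_left (hexp b hb)]
  have idx : ∀ a ∈ A, ∃ i < 52, comM i = a.1 := fun a ha =>
    exists_com_idx (hX ha) (hexp a ha) (hcomm a ha tU ht)
  intro a ha
  obtain ⟨i, hi, ei⟩ := idx a ha
  have hzero : ∀ {j : ℕ}, comM j = idM → j < 52 → j = 0 := fun e hj =>
    comM_inj hj (by norm_num) (e.trans comM_zero.symm)
  by_cases hQ : (comList.getD i (0, 0)).2 = 0
  · refine ⟨_, (com_spec hi).1, ?_⟩
    rw [← ei, ← (com_spec hi).2.2.1, hQ, kM_zero, (inX_qM (com_spec hi).1).inL.mm_idM]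
  exfalso
  obtain ⟨hTe, hTlt⟩ := comM_T
  have hTi := comMul_spec hTlt hi (hTe.trans val_tU.symm) ei (hcomm _ ht _ ha)
  have hi0 : i ≠ 0 := fun e => hQ (by rw [e]; decide +kernel)
  have hiT : i ≠ comT := fun e => hQ (by rw [e]; decide +kernel)
  -- a third element
  have pickOne : ∀ L : Finset LGrp, L.card < 16 → ∃ c ∈ A, c ∉ L := by
    intro L hL
    by_contra hcon
    simp only [not_exists, not_and, not_not] at hcon
    have hinj : Function.Injective (fun c : A => (⟨(c : LGrp), hcon c c.2⟩ : {x // x ∈ L})) :=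
      fun x y e => Subtype.ext (congrArg (fun z : {x // x ∈ L} => z.1) e)
    have := Nat.card_le_card_of_injective _ hinj
    rw [hA, Nat.card_eq_fintype_card, Fintype.card_coe] at this
    omega
  classical
  obtain ⟨c, hc, hcL⟩ := pickOne {1, tU, a, tU * a} (lt_of_le_of_lt Finset.card_le_four (by norm_num))
  obtain ⟨d, hd, hdL⟩ := pickOne ({1, tU, a, tU * a} ∪ {c, tU * c, a * c, tU * (a * c)})
    (lt_of_le_of_lt ((Finset.card_union_le _ _).trans
      (add_le_add Finset.card_le_four Finset.card_le_four)) (by norm_num))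
  simp only [Finset.mem_insert, Finset.mem_singleton, not_or, Finset.mem_union] at hcL hdL
  obtain ⟨j, hj, ej⟩ := idx c hc
  obtain ⟨k, hk, ek⟩ := idx d hd
  have hij := comMul_spec hi hj ei ej (hcomm _ ha _ hc)
  have hik := comMul_spec hi hk ei ek (hcomm _ ha _ hd)
  have hjk := comMul_spec hj hk ej ek (hcomm _ hc _ hd)
  have hTj := comMul_spec hTlt hj (hTe.trans val_tU.symm) ej (hcomm _ ht _ hc)
  have hTij := comMul_spec hTlt hij.1 (hTe.trans val_tU.symm) hij.2
    (hcomm _ ht _ (mul_mem ha hc))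
  have ne : ∀ {u w : ℕ} {x y : LGrp}, comM u = x.1 → comM w = y.1 → ¬ x = y →
      Nat.beq u w = false := fun hu hw hne => Bool.eq_false_iff.2 fun hb =>
    hne (LGrp.ext (by rw [← hu, ← hw, Nat.eq_of_beq_eq_true hb]))
  have lt52 : ∀ {u : ℕ}, u < 52 → Nat.beq u 52 = false := fun hu =>
    Bool.eq_false_iff.2 fun hb => by have := Nat.eq_of_beq_eq_true hb; omega
  have h1 : comM 0 = (1 : LGrp).1 := comM_zero
  have hT' : comM comT = tU.1 := hTe.trans val_tU.symm
  have h := List.all_eq_true.1 triple_ok i (List.mem_range.2 hi)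
  simp only [Bool.or_eq_true, List.all_eq_true, List.mem_range] at h
  rcases h with ((h | h) | h) | h
  · exact hi0 (Nat.eq_of_beq_eq_true h)
  · exact hiT (Nat.eq_of_beq_eq_true h)
  · exact hQ (Nat.eq_of_beq_eq_true h)
  rcases h j hj with ((((h' | h') | h') | h') | h') | h'
  · simp [lt52 hij.1] at h'
  · simp [ne ej h1 hcL.1] at h'
  · simp [ne ej hT' hcL.2.1] at h'
  · simp [ne ej ei hcL.2.2.1] at h'
  · simp [ne ej hTi.2 hcL.2.2.2] at h'
  rcases h' k hk with ((h'' | h'') | h'') | h''
  · simp [lt52 hik.1] at h''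
  · simp [lt52 hjk.1] at h''
  · simp [spanHas, ne ek h1 hdL.1.1, ne ek hT' hdL.1.2.1, ne ek ei hdL.1.2.2.1,
      ne ek hTi.2 hdL.1.2.2.2, ne ek ej hdL.2.1, ne ek hTj.2 hdL.2.2.1,
      ne ek hij.2 hdL.2.2.2.1, ne ek hTij.2 hdL.2.2.2.2] at h''
  · simp only [isSmall, List.any_eq_true] at h''
    obtain ⟨s, hs, hsub⟩ := h''
    have hlen : s.length ≤ 4 := Nat.le_of_ble_eq_true (List.all_eq_true.1 comSmall_ok s hs)
    have hmem : fixSet A ⊆ s.toFinset := by
      intro v hv
      obtain ⟨hv4, hvA⟩ := mem_fixSet.1 hv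
      have hvt : mv qU v = v := hvA tU ht
      have hb := List.all_eq_true.1 comFix_ok v (List.mem_range.2 hv4)
      simp only [hvt, Nat.beq_refl, Bool.not_true, Bool.false_or, List.all_eq_true,
        List.mem_range, Bool.or_eq_true, Bool.not_eq_true'] at hb
      have get : ∀ {u : ℕ} {x : LGrp}, u < 52 → comM u = x.1 → x ∈ A →
          (comFix.getD u 0).testBit v = true := fun hu eu hx => by
        rcases hb _ hu with e | e
        · rw [eu, show mv _ v = v from hvA _ hx, Nat.beq_refl] at e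
          exact Bool.noConfusion e
        · exact e
      have hbit : (comFix.getD i 0 &&& comFix.getD j 0 &&& comFix.getD k 0).testBit v = true := by
        rw [Nat.testBit_and, Nat.testBit_and, get hi ei ha, get hj ej hc, get hk ek hd]; rfl
      have hm : ((s.foldl (fun m v => m ||| 2 ^ v) 0)).testBit v = true := by
        rw [← Nat.eq_of_beq_eq_true hsub, Nat.testBit_or, hbit]; rfl
      rcases testBit_foldl_two_pow s 0 v hm with h0 | h0
      · simp at h0
      · exact List.mem_toFinset.2 h0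
    have := (Finset.card_le_card hmem).trans ((List.toFinset_card_le s).trans hlen)
    omega

end CfsgLib.J4Type.Cert

namespace CfsgLib.J4Type

open Cert

/-- An elementary subgroup of order sixteen of the linear part with more than four common fixed
vectors fixes an image of the plane pointwise, is conjugate into the upper radical, and its fixed
vectors form that image. -/
theorem elementary_sixteen_plane {A : Subgroup LGrp} (hX : A ≤ LGrp.xGrp)
    (hA : Nat.card A = 16) (hexp : ∀ a ∈ A, a * a = 1) (hfix : 4 < (fixSet A).card) :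
    ∃ r ∈ LGrp.xGrp, (∀ a ∈ A, ∃ i < 16, (r⁻¹ * a * r).1 = qM i) ∧
      (∀ i < 16, ∃ a ∈ A, (r⁻¹ * a * r).1 = qM i) ∧
      ∀ v < 4096, ((∀ a ∈ A, a.act v = v) ↔ (r⁻¹).act v < 64) := by
  have : Nontrivial A := Finite.one_lt_card_iff_nontrivial.1 (by rw [hA]; norm_num)
  obtain ⟨⟨a0, ha0⟩, hne⟩ := exists_ne (1 : A)
  replace hne : a0 ≠ 1 := fun e => hne (Subtype.ext e)
  obtain ⟨r1, hr1, hF⟩ := exists_plane_fixed (hX ha0) (hexp a0 ha0)
  have hs2 : r1⁻¹ * a0 * r1 * (r1⁻¹ * a0 * r1) = 1 := by
    rw [show r1⁻¹ * a0 * r1 * (r1⁻¹ * a0 * r1) = r1⁻¹ * (a0 * a0) * r1 by group, hexp a0 ha0]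
    group
  have hsne : r1⁻¹ * a0 * r1 ≠ 1 := fun e => hne (by
    have : a0 = r1 * (r1⁻¹ * a0 * r1) * r1⁻¹ := by group
    rw [this, e]; group)
  obtain ⟨R, hR, eR⟩ := exists_conj_tU (mul_mem (mul_mem (inv_mem hr1) (hX ha0)) hr1) hsne hs2 hF
  set r := r1 * R with hr
  have hrX : r ∈ LGrp.xGrp := mul_mem hr1 hR
  have hconj : r⁻¹ * a0 * r = tU := by
    rw [hr, show (r1 * R)⁻¹ * a0 * (r1 * R) = R⁻¹ * (r1⁻¹ * a0 * r1 * R) by group, eR]
    group
  let φ : LGrp →* LGrp := (MulAut.conj r).toMonoidHom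
  let A' : Subgroup LGrp := A.comap φ
  have hφ : ∀ x, φ x = r * x * r⁻¹ := fun _ => rfl
  have hback : ∀ a ∈ A, r⁻¹ * a * r ∈ A' := fun a ha => by
    show φ _ ∈ A
    rw [hφ, show r * (r⁻¹ * a * r) * r⁻¹ = a by group]
    exact ha
  have hX' : A' ≤ LGrp.xGrp := fun x hx => by
    have h := hX (show r * x * r⁻¹ ∈ A from hx)
    have e : x = r⁻¹ * (r * x * r⁻¹) * r := by group
    rw [e]
    exact mul_mem (mul_mem (inv_mem hrX) h) hrX
  have hA' : Nat.card A' = 16 := by
    rw [← hA]
    refine Nat.card_congr ⟨fun x => ⟨r * x.1 * r⁻¹, x.2⟩,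
      fun a => ⟨r⁻¹ * a.1 * r, hback a.1 a.2⟩, fun x => Subtype.ext ?_, fun a => Subtype.ext ?_⟩
    · show r⁻¹ * (r * x.1 * r⁻¹) * r = x.1
      group
    · show r * (r⁻¹ * a.1 * r) * r⁻¹ = a.1
      group
  have hexp' : ∀ x ∈ A', x * x = 1 := fun x hx => by
    have h := hexp _ (show r * x * r⁻¹ ∈ A from hx)
    have e : x * x = r⁻¹ * (r * x * r⁻¹ * (r * x * r⁻¹)) * r := by group
    rw [e, h]; group
  have hfixiff : ∀ v < 4096, (∀ a ∈ A, a.act v = v) ↔ ∀ x ∈ A', x.act ((r⁻¹).act v) = (r⁻¹).act v := by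
    intro v hv
    constructor
    · intro h x hx
      have h1 := h _ (show r * x * r⁻¹ ∈ A from hx)
      calc x.act ((r⁻¹).act v) = (x * r⁻¹).act v := (LGrp.act_mul _ _ _).symm
        _ = (r⁻¹ * (r * x * r⁻¹)).act v := by congr 1; group
        _ = (r⁻¹).act v := by rw [LGrp.act_mul, h1]
    · intro h a ha
      have h1 := h _ (hback a ha)
      rw [← LGrp.act_mul, show r⁻¹ * a * r * r⁻¹ = r⁻¹ * a by group, LGrp.act_mul] at h1
      exact (r⁻¹).2.mv_inj (a.2.mv_lt v) hv h1
  have hcard : (fixSet A).card ≤ (fixSet A').card := by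
    refine Finset.card_le_card_of_injOn (fun v => (r⁻¹).act v) (fun v hv => ?_) ?_
    · obtain ⟨hv4, hvA⟩ := mem_fixSet.1 (Finset.mem_coe.1 hv)
      exact Finset.mem_coe.2 (mem_fixSet.2 ⟨(r⁻¹).2.mv_lt v, (hfixiff v hv4).1 hvA⟩)
    · intro v hv w hw e
      exact (r⁻¹).2.mv_inj (mem_fixSet.1 (Finset.mem_coe.1 hv)).1
        (mem_fixSet.1 (Finset.mem_coe.1 hw)).1 e
  have hsub := mem_radical_of_elementary hX' hA' hexp' (hconj ▸ hback a0 ha0)
    (lt_of_lt_of_le hfix hcard)
  -- every element of the upper radical occurs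
  have hall : ∀ i < 16, ∃ x ∈ A', x.1 = qM i := by
    choose f hf hfe using fun x : A' => hsub x.1 x.2
    let g : A' → Fin 16 := fun x => ⟨f x, hf x⟩
    have hinj : Function.Injective g := fun x y e => by
      have e' : f x = f y := congrArg Fin.val e
      exact Subtype.ext (LGrp.ext (by rw [hfe x, hfe y, e']))
    have hbij : Function.Bijective g :=
      (Nat.bijective_iff_injective_and_card g).2 ⟨hinj, by rw [hA', Nat.card_fin]⟩
    intro i hi
    obtain ⟨x, hx⟩ := hbij.2 ⟨i, hi⟩
    exact ⟨x.1, x.2, by rw [hfe x, show f x = i from congrArg Fin.val hx]⟩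
  refine ⟨r, hrX, fun a ha => hsub _ (hback a ha), fun i hi => ?_, fun v hv => ?_⟩
  · obtain ⟨x, hx, e⟩ := hall i hi
    refine ⟨r * x * r⁻¹, hx, ?_⟩
    rw [show r⁻¹ * (r * x * r⁻¹) * r = x by group]
    exact e
  · rw [hfixiff v hv]
    constructor
    · intro h
      have hb := List.all_eq_true.1 qFixSet_ok _ (List.mem_range.2 ((r⁻¹).2.mv_lt v))
      simp only [Bool.or_eq_true, List.any_eq_true, List.mem_range, Bool.not_eq_true'] at hb
      rcases hb with e | ⟨i, hi, e⟩
      · exact blt_lt e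
      · obtain ⟨x, hx, ex⟩ := hall i hi
        rw [← ex] at e
        have := h x hx
        unfold LGrp.act at this
        rw [this, Nat.beq_refl] at e
        exact Bool.noConfusion e
    · intro h x hx
      obtain ⟨i, hi, e⟩ := hsub x hx
      show mv x.1 _ = _
      rw [e]
      exact qM_fix hi h

end CfsgLib.J4Type
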