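import Cfsg.Agent.Lib.J4Type.Model

/-!
Basic facts on the coordinates of the Janko-four type: linearity of `mv`, the polar form, the plane
`[0, 64)` is its own perpendicular, and the group `InL` acts linearly and preserves the forms.
-/

set_option autoImplicit false

namespace CfsgLib.J4Type

namespace Cert

theorem xor_div_two' (v w : ℕ) : (v ^^^ w) / 2 = v / 2 ^^^ w / 2 := by
  apply Nat.eq_of_testBit_eq
  intro i
  simp [Nat.testBit_div_two, Nat.testBit_xor]

theorem beq_mod_two (v : ℕ) : Nat.beq (v % 2) 1 = v.testBit 0 := by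
  rw [Nat.testBit_zero]
  rcases Nat.mod_two_eq_zero_or_one v with h | h <;> rw [h] <;> rfl

theorem xor_cancel_left' (a b : ℕ) : a ^^^ (a ^^^ b) = b := by
  rw [← Nat.xor_assoc, Nat.xor_self, Nat.zero_xor]

theorem mv_nil (v : ℕ) : mv [] v = 0 := rfl

theorem mv_cons (a : ℕ) (l : List ℕ) (v : ℕ) :
    mv (a :: l) v = bif v.testBit 0 then a ^^^ mv l (v / 2) else mv l (v / 2) := by
  rw [← beq_mod_two]
  rfl

theorem mv_zero : ∀ l : List ℕ, mv l 0 = 0
  | [] => rfl
  | a :: l => by
    rw [mv_cons]
    simp [mv_zero l]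

/-- `mv` is linear in the vector. -/
theorem mv_xor : ∀ (l : List ℕ) (v w : ℕ), mv l (v ^^^ w) = mv l v ^^^ mv l w
  | [], _, _ => by simp [mv_nil]
  | a :: l, v, w => by
    rw [mv_cons, mv_cons, mv_cons, xor_div_two', mv_xor l, Nat.testBit_xor]
    cases v.testBit 0 <;> cases w.testBit 0 <;>
      simp [Nat.xor_left_comm, Nat.xor_assoc]

theorem mv_lt : ∀ (l : List ℕ) (v : ℕ), (∀ a ∈ l, a < 4096) → mv l v < 4096
  | [], _, _ => by simp [mv_nil]
  | a :: l, v, h => by
    have ih := mv_lt l (v / 2) fun b hb => h b (List.mem_cons_of_mem _ hb)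
    rw [mv_cons]
    cases v.testBit 0
    · exact ih
    · exact Nat.xor_lt_two_pow (n := 12) (h a List.mem_cons_self) ih

/-- Composition of maps acts as composition. -/
theorem mv_mm (a : List ℕ) : ∀ (b : List ℕ) (v : ℕ), mv (mm a b) v = mv a (mv b v)
  | [], _ => by simp [mm, mv_nil, mv_zero]
  | x :: b, v => by
    have ih := mv_mm a b (v / 2)
    simp only [mm] at ih
    simp only [mm, List.map_cons]
    rw [mv_cons, mv_cons, ih]
    cases v.testBit 0
    · rfl
    · simp only [cond_true]
      rw [mv_xor]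

theorem length_mm (a b : List ℕ) : (mm a b).length = b.length := by
  simp [mm]

theorem mm_assoc (a b c : List ℕ) : mm (mm a b) c = mm a (mm b c) := by
  simp only [mm, List.map_map]
  exact List.map_congr_left fun x _ => mv_mm a b x

theorem mv_idM_aux : ((List.range 4096).all fun v => Nat.beq (mv idM v) v) = true := by
  decide +kernel

theorem mv_idM {v : ℕ} (h : v < 4096) : mv idM v = v := by
  have h' := List.all_eq_true.1 mv_idM_aux v (List.mem_range.2 h)
  exact Nat.eq_of_beq_eq_true h'

/-- A list is determined by its values on the basis vectors. -/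
theorem mv_two_pow : ∀ (l : List ℕ) (i : ℕ) (hi : i < l.length), mv l (2 ^ i) = l[i]
  | [], i, hi => by simp at hi
  | a :: l, 0, _ => by simp [mv_cons, mv_zero]
  | a :: l, i + 1, hi => by
    have h1 : (2 ^ (i + 1)).testBit 0 = false := by simp
    have h2 : 2 ^ (i + 1) / 2 = 2 ^ i := by
      rw [pow_succ, Nat.mul_div_cancel _ (by norm_num : 0 < 2)]
    rw [mv_cons, h1, h2]
    simpa using mv_two_pow l i (by simpa using hi)

theorem ext_mv {a b : List ℕ} (hl : a.length = b.length)
    (h : ∀ i < a.length, mv a (2 ^ i) = mv b (2 ^ i)) : a = b := by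
  refine List.ext_getElem hl fun i ha hb => ?_
  rw [← mv_two_pow a i ha, ← mv_two_pow b i hb, h i ha]

/-- One pair of coordinates of the polar form. -/
def cr (v w i j : ℕ) : Bool := ((v.testBit i && w.testBit j)).xor (w.testBit i && v.testBit j)

/-- The polar form written out. -/
def bC (v w : ℕ) : Bool :=
  (cr v w 0 7).xor ((cr v w 1 6).xor ((cr v w 2 9).xor ((cr v w 3 8).xor
    ((cr v w 4 11).xor (cr v w 5 10)))))

theorem bb_xor (v w i j : ℕ) :
    bb (v ^^^ w) i j = (bb v i j).xor ((bb w i j).xor (cr v w i j)) := by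
  simp only [bb, cr, Nat.testBit_xor]
  cases v.testBit i <;> cases w.testBit i <;> cases v.testBit j <;> cases w.testBit j <;> rfl

theorem pull3 {x y a b c A B C : Bool} (hx : x = a.xor (b.xor c)) (hy : y = A.xor (B.xor C)) :
    x.xor y = (a.xor A).xor ((b.xor B).xor (c.xor C)) := by
  subst hx hy
  cases a <;> cases b <;> cases c <;> cases A <;> cases B <;> cases C <;> rfl

theorem pull2 {x y a b A B : Bool} (hx : x = a.xor b) (hy : y = A.xor B) :
    x.xor y = (a.xor A).xor (b.xor B) := by
  subst hx hy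
  cases a <;> cases b <;> cases A <;> cases B <;> rfl

theorem xor3_cancel : ∀ a b c : Bool, (a.xor (b.xor c)).xor (a.xor b) = c := by
  decide

theorem qF_xor_eq (v w : ℕ) : qF (v ^^^ w) = (qF v).xor ((qF w).xor (bC v w)) := by
  unfold qF bC
  exact pull3 (bb_xor ..) (pull3 (bb_xor ..) (pull3 (bb_xor ..) (pull3 (bb_xor ..)
    (pull3 (bb_xor ..) (bb_xor ..)))))

theorem bF_eq (v w : ℕ) : bF v w = bC v w := by
  rw [bF, qF_xor_eq, xor3_cancel]

theorem qF_xor (v w : ℕ) : qF (v ^^^ w) = (qF v).xor ((qF w).xor (bF v w)) := by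
  rw [bF_eq, qF_xor_eq]

theorem cr_xor_left (u v w i j : ℕ) :
    cr (u ^^^ v) w i j = (cr u w i j).xor (cr v w i j) := by
  simp only [cr, Nat.testBit_xor]
  cases u.testBit i <;> cases v.testBit i <;> cases w.testBit i <;> cases u.testBit j <;>
    cases v.testBit j <;> cases w.testBit j <;> rfl

theorem bF_xor_left (u v w : ℕ) : bF (u ^^^ v) w = (bF u w).xor (bF v w) := by
  simp only [bF_eq]
  unfold bC
  exact pull2 (cr_xor_left ..) (pull2 (cr_xor_left ..) (pull2 (cr_xor_left ..)
    (pull2 (cr_xor_left ..) (pull2 (cr_xor_left ..) (cr_xor_left ..)))))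

theorem bF_comm (v w : ℕ) : bF v w = bF w v := by
  rw [bF, bF, Nat.xor_comm v w, Bool.xor_comm (qF v) (qF w)]

theorem bF_xor_right (u v w : ℕ) : bF u (v ^^^ w) = (bF u v).xor (bF u w) := by
  rw [bF_comm, bF_xor_left, bF_comm v, bF_comm w]

theorem qF_zero : qF 0 = false := by decide +kernel

theorem bF_self (v : ℕ) : bF v v = false := by
  simp [bF, qF_zero]

theorem bF_zero_left (v : ℕ) : bF 0 v = false := by
  simp [bF, qF_zero]

theorem perp_aux : ((List.range 4096).all fun u =>
    (bF u 1 || bF u 2 || bF u 4 || bF u 8 || bF u 16 || bF u 32) || Nat.blt u 64) = true := by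
  decide +kernel

/-- A vector perpendicular to a basis of the plane lies in the plane. -/
theorem lt_plane_of_perp {u : ℕ} (hu : u < 4096) (h : ∀ i < 6, bF u (2 ^ i) = false) :
    u < 64 := by
  have h' := List.all_eq_true.1 perp_aux u (List.mem_range.2 hu)
  have e0 : bF u 1 = false := h 0 (by norm_num)
  have e1 : bF u 2 = false := h 1 (by norm_num)
  have e2 : bF u 4 = false := h 2 (by norm_num)
  have e3 : bF u 8 = false := h 3 (by norm_num)
  have e4 : bF u 16 = false := h 4 (by norm_num)
  have e5 : bF u 32 = false := h 5 (by norm_num)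
  simp only [e0, e1, e2, e3, e4, e5, Bool.false_or] at h'
  exact Nat.le_of_ble_eq_true h'

theorem plane_sing_aux : ((List.range 64).all fun u => !qF u) = true := by
  decide +kernel

/-- The plane is singular. -/
theorem qF_of_lt_plane {v : ℕ} (h : v < 64) : qF v = false := by
  simpa using List.all_eq_true.1 plane_sing_aux v (List.mem_range.2 h)

theorem bF_of_lt_plane {v w : ℕ} (hv : v < 64) (hw : w < 64) : bF v w = false := by
  simp [bF, qF_of_lt_plane hv, qF_of_lt_plane hw,
    qF_of_lt_plane (Nat.xor_lt_two_pow (n := 6) hv hw)]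

theorem gensL_data_aux : (gensL.all fun g => Nat.beq g.length 12 && (g.all fun a => Nat.blt a 4096)
    && ((List.range 4096).all fun v => qF (mv g v) == qF v)) = true := by
  decide +kernel

theorem gensL_data {g : List ℕ} (hg : g ∈ gensL) :
    g.length = 12 ∧ (∀ a ∈ g, a < 4096) ∧ ∀ v < 4096, qF (mv g v) = qF v := by
  have h := List.all_eq_true.1 gensL_data_aux g hg
  simp only [Bool.and_eq_true, List.all_eq_true] at h
  exact ⟨Nat.eq_of_beq_eq_true h.1.1, fun a ha => Nat.le_of_ble_eq_true (h.1.2 a ha),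
    fun v hv => by simpa using h.2 v (List.mem_range.2 hv)⟩

theorem gensL_ker_aux : (gensL.all fun g =>
    (List.range 4096).all fun v => !(Nat.beq (mv g v) 0) || Nat.beq v 0) = true := by
  decide +kernel

theorem gensL_inj {g : List ℕ} (hg : g ∈ gensL) {a b : ℕ} (ha : a < 4096) (hb : b < 4096)
    (e : mv g a = mv g b) : a = b := by
  have hx : mv g (a ^^^ b) = 0 := by rw [mv_xor, e, Nat.xor_self]
  have hk := List.all_eq_true.1 (List.all_eq_true.1 gensL_ker_aux g hg) (a ^^^ b)
    (List.mem_range.2 (Nat.xor_lt_two_pow (n := 12) ha hb))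
  simp only [hx] at hk
  exact Nat.xor_eq_zero_iff.1 (Nat.eq_of_beq_eq_true hk)

end Cert

open Cert

namespace InL

theorem len {m : List ℕ} (h : InL m) : m.length = 12 := by
  induction h with
  | one => rfl
  | mul g hg hm ih => rw [length_mm]; exact ih

theorem lt {m : List ℕ} (h : InL m) : ∀ a ∈ m, a < 4096 := by
  induction h with
  | one => decide
  | mul g hg hm ih =>
    intro a ha
    obtain ⟨x, -, rfl⟩ := List.mem_map.1 ha
    exact mv_lt g x (gensL_data hg).2.1

theorem mv_lt {m : List ℕ} (h : InL m) (v : ℕ) : mv m v < 4096 :=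
  Cert.mv_lt m v h.lt

theorem qF_mv {m : List ℕ} (h : InL m) : ∀ v < 4096, qF (mv m v) = qF v := by
  induction h with
  | one => intro v hv; rw [Cert.mv_idM hv]
  | mul g hg hm ih =>
    intro v hv
    rw [mv_mm, (gensL_data hg).2.2 _ (InL.mv_lt hm v), ih v hv]

theorem bF_mv {m : List ℕ} (h : InL m) {v w : ℕ} (hv : v < 4096) (hw : w < 4096) :
    bF (mv m v) (mv m w) = bF v w := by
  simp only [bF]
  rw [← mv_xor, h.qF_mv _ (Nat.xor_lt_two_pow (n := 12) hv hw), h.qF_mv _ hv, h.qF_mv _ hw]

theorem of_gen {g : List ℕ} (hg : g ∈ gensL) : InL g := by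
  have h := InL.mul g hg InL.one
  have e : mm g idM = g := by
    refine ext_mv (by rw [length_mm, (gensL_data hg).1]; rfl) fun i hi => ?_
    have hi' : i < 12 := by simpa [length_mm, idM] using hi
    rw [mv_mm, mv_idM (Nat.pow_lt_pow_right (by norm_num) hi' : 2 ^ i < 2 ^ 12)]
  rwa [e] at h

theorem comp {a b : List ℕ} (ha : InL a) (hb : InL b) : InL (mm a b) := by
  induction ha with
  | one =>
    have e : mm idM b = b := by
      refine (List.map_congr_left fun x hx => ?_).trans (List.map_id b)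
      exact mv_idM (hb.lt x hx)
    rwa [e]
  | mul g hg hm ih =>
    rw [mm_assoc]
    exact InL.mul g hg ih

theorem mv_inj {m : List ℕ} (h : InL m) {v w : ℕ} (hv : v < 4096) (hw : w < 4096)
    (e : mv m v = mv m w) : v = w := by
  induction h generalizing v w with
  | one => rwa [mv_idM hv, mv_idM hw] at e
  | mul g hg hm ih =>
    rw [mv_mm, mv_mm] at e
    exact ih hv hw (gensL_inj hg (InL.mv_lt hm v) (InL.mv_lt hm w) e)

end InL

end CfsgLib.J4Type
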