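import Cfsg.Agent.Lib.J4Type.Cert.Decomp

/-!
An involution of the linear part fixes one of the 77 images of the plane.
-/

set_option autoImplicit false
set_option maxRecDepth 10000

namespace CfsgLib.J4Type.Cert

theorem rep_sep_ok : ((List.range 77).all fun p => (List.range p).all fun q =>
    (List.range 6).any fun i => (List.range 6).any fun j =>
      bF (mv (rM p) (2 ^ i)) (mv (rM q) (2 ^ j))) = true := by
  decide +kernel

/-- Different representatives give different images of the plane. -/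
theorem rep_sep {p q : ℕ} (hp : p < 77) (hq : q < 77)
    (h : ∀ v < 64, ∃ w < 64, mv (rM p) v = mv (rM q) w) : p = q := by
  have pair : ∀ a b : ℕ, a < 64 → b < 64 → bF (mv (rM q) a) (mv (rM q) b) = false := by
    intro a b ha hb
    rw [(inX_rM q hq).inL.bF_mv (lt_trans ha (by norm_num)) (lt_trans hb (by norm_num))]
    exact bF_of_lt_plane ha hb
  have hs := rep_sep_ok
  simp only [List.all_eq_true, List.any_eq_true, List.mem_range] at hs
  rcases Nat.lt_trichotomy p q with hl | he | hl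
  · obtain ⟨i, hi, j, hj, e⟩ := hs q hq p hl
    obtain ⟨w, hw, ew⟩ := h (2 ^ j) (Nat.pow_lt_pow_right (by norm_num) hj : 2 ^ j < 2 ^ 6)
    rw [ew, pair _ _ (Nat.pow_lt_pow_right (by norm_num) hi : 2 ^ i < 2 ^ 6) hw] at e
    exact Bool.noConfusion e
  · exact he
  · obtain ⟨i, hi, j, hj, e⟩ := hs p hp q hl
    obtain ⟨w, hw, ew⟩ := h (2 ^ i) (Nat.pow_lt_pow_right (by norm_num) hi : 2 ^ i < 2 ^ 6)
    rw [ew, pair _ _ hw (Nat.pow_lt_pow_right (by norm_num) hj : 2 ^ j < 2 ^ 6)] at e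
    exact Bool.noConfusion e

/-- A representative as an element of the group. -/
noncomputable def rG (p : Fin 77) : LGrp := ⟨rM p, (inX_rM p p.2).inL⟩

/-- The image of a plane under a linear element. -/
theorem exists_plane_image {a : LGrp} (ha : a ∈ LGrp.xGrp) (p : Fin 77) :
    ∃ q : Fin 77, ∀ v < 64, ∃ w < 64, a.act ((rG p).act v) = (rG q).act w := by
  have hX : InX (mm a.1 (rM p)) := InX.comp ha (inX_rM p p.2)
  obtain ⟨q, hq, c, hc, k, hk, e⟩ := hX.decomp
  refine ⟨⟨q, hq⟩, fun v hv => ⟨_, mv_lt_plane (stabF_stab hc hk) v hv, ?_⟩⟩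
  show mv a.1 (mv (rM p) v) = mv (rM q) _
  rw [← mv_mm, e, mv_mm]

/-- An involution of the linear part is conjugate into the stabiliser of the plane. -/
theorem exists_plane_fixed {a : LGrp} (ha : a ∈ LGrp.xGrp) (h2 : a * a = 1) :
    ∃ r ∈ LGrp.xGrp, ∀ v < 64, (r⁻¹ * a * r).act v < 64 := by
  choose σ hσ using exists_plane_image ha
  have huniq : ∀ p : Fin 77, σ (σ p) = p := by
    intro p
    refine (Fin.ext (rep_sep p.2 (σ (σ p)).2 fun v hv => ?_)).symm
    obtain ⟨w, hw, e⟩ := hσ p v hv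
    obtain ⟨u, hu, e'⟩ := hσ (σ p) w hw
    refine ⟨u, hu, ?_⟩
    have h64 : v < 4096 := lt_trans hv (by norm_num)
    rw [← e, ← LGrp.act_mul, h2, LGrp.act_one (show (rG p).act v < 4096 from (rG p).2.mv_lt v)] at e'
    exact e'
  let π : Equiv.Perm (Fin 77) := ⟨σ, σ, huniq, huniq⟩
  obtain ⟨p, hp⟩ : ∃ p, π p = p := by
    have : Fact (Nat.Prime 2) := ⟨Nat.prime_two⟩
    refine Equiv.Perm.exists_fixed_point_of_prime (p := 2) (n := 1) (by simp) ?_
    ext x
    simp [π, pow_two, huniq]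
  refine ⟨rG p, show InX (rM p) from inX_rM p p.2, fun v hv => ?_⟩
  obtain ⟨w, hw, e⟩ := hσ p v hv
  rw [show σ p = p from hp] at e
  rw [LGrp.act_mul, LGrp.act_mul, e, LGrp.act_inv _ (lt_trans hw (by norm_num))]
  exact hw

/-- Every image of the plane is one of the 77 recorded ones. -/
theorem exists_plane_image_inL (m : LGrp) :
    ∃ p : Fin 77, ∀ v, v < 4096 → ((∃ w < 64, m.act w = v) ↔ ∃ w < 64, (rG p).act w = v) := by
  have key : ∀ x, InX x → ∀ s, InL s → stabF s = true → m.1 = mm x s →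
      ∃ p : Fin 77, ∀ v, v < 4096 →
        ((∃ w < 64, m.act w = v) ↔ ∃ w < 64, (rG p).act w = v) := by
    intro x hx s hs hsF hms
    obtain ⟨p, hp, a, ha, k, hk, rfl⟩ := hx.decomp
    have hS : InL (mm (mm (qM a) (kM k)) s) := (inX_stab ha hk).inL.comp hs
    have hSF := mv_lt_plane (stabF_mm (stabF_stab ha hk) hsF)
    have hme : ∀ w, m.act w = mv (rM p) (mv (mm (mm (qM a) (kM k)) s) w) := fun w => by
      show mv m.1 w = _
      rw [hms, mm_assoc, mv_mm]
    refine ⟨⟨p, hp⟩, fun v _ => ⟨?_, ?_⟩⟩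
    · rintro ⟨w, hw, rfl⟩
      exact ⟨_, hSF w hw, (hme w).symm⟩
    · rintro ⟨w, hw, rfl⟩
      obtain ⟨u, hu, e⟩ := plane_surj hS hSF w hw
      exact ⟨u, hu, by rw [hme, e]; rfl⟩
  rcases m.2.cases_sig with hx | ⟨x, hx, e⟩
  · exact key m.1 hx idM InL.one stabF_idM m.2.mm_idM.symm
  · exact key x hx sig InL.sig_mem stabF_sig e

/-- The 77 recorded images are linear images of the plane and are pairwise different. -/
theorem plane_images_spec :
    (∀ p : Fin 77, rG p ∈ LGrp.xGrp) ∧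
      ∀ p q : Fin 77, (∀ v < 64, ∃ w < 64, (rG p).act v = (rG q).act w) → p = q :=
  ⟨fun p => show InX (rM p) from inX_rM p p.2, fun p q h => Fin.ext (rep_sep p.2 q.2 h)⟩

end CfsgLib.J4Type.Cert
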