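import Cfsg.Agent.Lib.J4Type.Cert.SixStab

/-!
For a singular vector `e` fixed by `qU` and outside the plane, the stabiliser in the centraliser of
`qU` of the class of `e` modulo the commutators has no normal two-subgroup whose commutators are
`1` and `qU` and whose centre has index at most four.
-/

set_option autoImplicit false
set_option maxRecDepth 10000

namespace CfsgLib.J4Type.Cert

/-- An element of the common part of two Sylow subgroups. -/
def sixM (i : ℕ) : List ℕ := sixCore.getD i noMap

/-- An entry of the multiplication table. -/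
def sixProd (i j : ℕ) : ℕ := (sixMul.getD i []).getD j 64

/-- A member of a conjugacy class. -/
def sixConj (a i : ℕ) : ℕ × ℕ × ℕ := (sixOrb.getD a []).getD i (64, 0, 0)

/-- Whether two elements do not commute. -/
def sixNc (i j : ℕ) : Bool := !Nat.beq (sixProd i j) (sixProd j i)

/-- Whether the commutator is trivial or `qU`. -/
def sixOk (i j : ℕ) : Bool :=
  Nat.beq (sixProd i j) (sixProd j i) || Nat.beq (sixProd i j) (sixProd sixT (sixProd j i))

theorem sixS1_ok : tableOK sixS1Code sixS1Els sixS1Par sixS1Step = true := by decide +kernel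

theorem sixS2_ok : tableOK sixS2Code sixS2Els sixS2Par sixS2Step = true := by decide +kernel

theorem six_sub_ok : ((sixS1Els.all fun m => sixS0Els.elem m &&
    (!(sixS2Els.elem m) || sixCore.elem m)) && sixS2Els.all fun m => sixS0Els.elem m) = true := by
  decide +kernel

theorem sixMul_ok : (Nat.beq sixCore.length 64 && Nat.blt sixT 64 && sixM sixT == qU &&
    (List.range 64).all fun i => (List.range 64).all fun j => Nat.blt (sixProd i j) 64 &&
      mm (sixM i) (sixM j) == sixM (sixProd i j)) = true := by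
  decide +kernel

/-- A generator of the stabiliser. -/
def sixGen (g : ℕ) : List ℕ := decodeM (sixS0Code.getD g (0, 0, 0, 0))

theorem sixOrb_ok : ((List.range 64).all fun a =>
    (List.range (sixOrb.getD a []).length).all fun i =>
      Nat.blt (sixConj a i).1 64 &&
      ((Nat.beq i 0 && Nat.beq (sixConj a i).1 a) ||
        (Nat.blt (sixConj a i).2.2 i && Nat.blt (sixConj a i).2.1 sixS0Code.length &&
          sixS0Els.elem (sixGen (sixConj a i).2.1) &&
          mm (sixGen (sixConj a i).2.1) (sixM (sixConj a (sixConj a i).2.2).1) ==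
            mm (sixM (sixConj a i).1) (sixGen (sixConj a i).2.1)))) = true := by
  decide +kernel

/-- The element named by a witness. -/
def sixPick (a b : ℕ) (s i : ℕ) : ℕ := (sixConj (bif Nat.beq s 0 then a else b) i).1

/-- Whether the witness of a pair is valid. -/
def sixBad (a b : ℕ) : Bool :=
  let w := (sixWit.getD a []).getD b (0, 0, 0, 0)
  Nat.blt w.2.1 (sixOrb.getD (bif Nat.beq w.1 0 then a else b) []).length &&
  Nat.blt w.2.2.2 (sixOrb.getD (bif Nat.beq w.2.2.1 0 then a else b) []).length &&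
  let c := sixPick a b w.1 w.2.1
  let d := sixPick a b w.2.2.1 w.2.2.2
  !(sixOk c d && sixOk c a && sixOk c b && sixOk a d && sixOk b d &&
    (sixNc c d == ((sixNc c b && sixNc a d).xor (sixNc c a && sixNc b d))))

theorem sixBad_ok : ((List.range 64).all fun a => (List.range 64).all fun b =>
    !(sixNc a b && Nat.beq (sixProd a b) (sixProd sixT (sixProd b a))) || sixBad a b) = true := by
  decide +kernel

theorem sixM_inj_ok : ((List.range 64).all fun i => (List.range i).all fun j =>
    !(sixM i == sixM j)) = true := by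
  decide +kernel

theorem sixM_inj {i j : ℕ} (hi : i < 64) (hj : j < 64) (e : sixM i = sixM j) : i = j := by
  have h := sixM_inj_ok
  simp only [List.all_eq_true, List.mem_range, Bool.not_eq_true', beq_eq_false_iff_ne] at h
  rcases Nat.lt_trichotomy i j with hl | he | hl
  · exact absurd e.symm (h j hj i hl)
  · exact he
  · exact absurd e (h i hi j hl)

section algebra

variable {H : Type*} [Group H]

/-- Whether two elements do not commute. -/
noncomputable def ncB (x y : H) : Bool := @decide (x * y ≠ y * x) (Classical.dec _)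

theorem ncB_eq_true {x y : H} : ncB x y = true ↔ x * y ≠ y * x := by
  simp [ncB]

theorem ncB_eq_false {x y : H} : ncB x y = false ↔ x * y = y * x := by
  simp [ncB]

theorem ncB_mul_left {t : H} (ht : t ≠ 1) (ht2 : t * t = 1) {x y d : H}
    (hxc : t * x = x * t) (hx : x * d = d * x ∨ x * d = t * (d * x))
    (hy : y * d = d * y ∨ y * d = t * (d * y)) :
    ncB (x * y) d = (ncB x d).xor (ncB y d) := by
  have key : ∀ {u v : H}, u = t * v → u ≠ v := fun {u v} e h => by
    rw [h] at e
    exact ht (by simpa using e.symm)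
  rcases hx with hx | hx <;> rcases hy with hy | hy
  · rw [ncB_eq_false.2 hx, ncB_eq_false.2 hy, Bool.false_xor, ncB_eq_false]
    rw [mul_assoc, hy, ← mul_assoc, hx, mul_assoc]
  · rw [ncB_eq_false.2 hx, ncB_eq_true.2 (key hy), Bool.false_xor, ncB_eq_true]
    refine key ?_
    rw [mul_assoc, hy, ← mul_assoc x t, ← hxc, mul_assoc t x, ← mul_assoc x d, hx, mul_assoc d x]
  · rw [ncB_eq_true.2 (key hx), ncB_eq_false.2 hy, Bool.xor_false, ncB_eq_true]
    refine key ?_
    rw [mul_assoc, hy, ← mul_assoc, hx, mul_assoc t, mul_assoc d]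
  · rw [ncB_eq_true.2 (key hx), ncB_eq_true.2 (key hy), Bool.xor_self, ncB_eq_false]
    rw [mul_assoc, hy, ← mul_assoc x t, ← hxc, mul_assoc t x, ← mul_assoc x d, hx, ← mul_assoc t,
      ← mul_assoc t t, ht2, one_mul, mul_assoc]

theorem ncB_comm (x y : H) : ncB x y = ncB y x := by
  unfold ncB
  congr 1
  exact propext ne_comm

theorem ncB_formula {t : H} (ht : t ≠ 1) (ht2 : t * t = 1) {U : Subgroup H} [Finite U]
    (htc : ∀ x ∈ U, t * x = x * t)
    (hder : ∀ x ∈ U, ∀ y ∈ U, x * y = y * x ∨ x * y = t * (y * x))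
    {a b : H} (ha : a ∈ U) (hb : b ∈ U) (hab : a * b ≠ b * a)
    (hidx : (Subgroup.center U).index ≤ 4) {c d : H} (hc : c ∈ U) (hd : d ∈ U) :
    ncB c d = (ncB c b && ncB a d).xor (ncB c a && ncB b d) := by
  set A : U := ⟨a, ha⟩ with hA
  set B : U := ⟨b, hb⟩ with hB
  have hAB : A * B ≠ B * A := fun e => hab (congrArg Subtype.val e)
  let f : Fin 4 → U ⧸ Subgroup.center U := fun i =>
    (([1, A, B, A * B] : List U).get (i.cast rfl) : U)
  have hinj : Function.Injective f := by
    have nz : ∀ {x y : U}, x * y ≠ y * x → x ∉ Subgroup.center U := fun {x y} h hx =>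
      h (Subgroup.mem_center_iff.1 hx y).symm
    have hne : ∀ {x y : U}, x⁻¹ * y ∉ Subgroup.center U →
        (x : U ⧸ Subgroup.center U) ≠ y := fun h e => h (QuotientGroup.eq.1 e)
    have h01 : ((1 : U) : U ⧸ Subgroup.center U) ≠ A := hne (by simpa using nz hAB)
    have h02 : ((1 : U) : U ⧸ Subgroup.center U) ≠ B := hne (by simpa using nz (Ne.symm hAB))
    have h03 : ((1 : U) : U ⧸ Subgroup.center U) ≠ (A * B : U) := by
      refine hne (nz (y := A) fun e => ?_)
      simp only [inv_one, one_mul, mul_assoc] at e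
      exact hAB (mul_left_cancel e).symm
    have h12 : (A : U ⧸ Subgroup.center U) ≠ B := by
      refine hne (nz (y := A) fun e => ?_)
      rw [mul_assoc, ← mul_assoc A A⁻¹ B, mul_inv_cancel, one_mul, inv_mul_eq_iff_eq_mul] at e
      exact hAB e.symm
    have h13 : (A : U ⧸ Subgroup.center U) ≠ (A * B : U) :=
      hne (by simpa using nz (Ne.symm hAB))
    have h23 : (B : U ⧸ Subgroup.center U) ≠ (A * B : U) := by
      refine hne (nz (y := B) fun e => ?_)
      rw [← mul_assoc B B⁻¹, mul_inv_cancel, one_mul, mul_assoc, inv_mul_eq_iff_eq_mul,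
        ← mul_assoc B A B] at e
      exact hAB (mul_right_cancel e)
    intro i j e
    fin_cases i <;> fin_cases j <;>
      first
        | rfl
        | (exfalso; first
            | exact h01 e | exact h02 e | exact h03 e | exact h12 e | exact h13 e | exact h23 e
            | exact h01 e.symm | exact h02 e.symm | exact h03 e.symm | exact h12 e.symm
            | exact h13 e.symm | exact h23 e.symm)
  have hsurj : Function.Surjective f := by
    have h4 : Nat.card (U ⧸ Subgroup.center U) ≤ 4 := hidx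
    have hge := Nat.card_le_card_of_injective f hinj
    rw [Nat.card_fin] at hge
    exact (Nat.bijective_iff_injective_and_card f).2
      ⟨hinj, by rw [Nat.card_fin]; omega⟩ |>.2
  obtain ⟨i, hi⟩ := hsurj ((⟨c, hc⟩ : U) : U ⧸ Subgroup.center U)
  obtain ⟨z, hz⟩ : ∃ z : U, z ∈ Subgroup.center U ∧
      (⟨c, hc⟩ : U) = ([1, A, B, A * B] : List U).get (i.cast rfl) * z :=
    ⟨_, QuotientGroup.eq.1 hi, (mul_inv_cancel_left _ _).symm⟩
  have hzc : ∀ x ∈ U, ncB (z : H) x = false := fun x hx =>
    ncB_eq_false.2 (congrArg Subtype.val (Subgroup.mem_center_iff.1 hz.1 ⟨x, hx⟩)).symm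
  have hc' : c = ((([1, A, B, A * B] : List U).get (i.cast rfl) : U) : H) * (z : H) :=
    congrArg Subtype.val hz.2
  have lin : ∀ x ∈ U, ∀ y ∈ U, ∀ w ∈ U, ncB (x * y) w = (ncB x w).xor (ncB y w) :=
    fun x hx y hy w hw => ncB_mul_left ht ht2 (htc x hx) (hder x hx w hw) (hder y hy w hw)
  have hAd : ncB a a = false := ncB_eq_false.2 rfl
  have hBd : ncB b b = false := ncB_eq_false.2 rfl
  have hab' : ncB a b = true := ncB_eq_true.2 hab
  have hba' : ncB b a = true := by rw [ncB_comm]; exact hab'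
  have h1 : ∀ w : H, ncB (1 : H) w = false := fun w => ncB_eq_false.2 (by simp)
  have expand : ∀ x ∈ U, ∀ w ∈ U, ncB (x * (z : H)) w = ncB x w := fun x hx w hw => by
    rw [lin x hx _ z.2 w hw, hzc w hw, Bool.xor_false]
  fin_cases i
  · obtain rfl : c = (1 : H) * (z : H) := hc'
    simp [hzc _ hd, hzc _ ha, hzc _ hb]
  · obtain rfl : c = a * (z : H) := hc'
    simp [expand a ha _ hd, expand a ha _ ha, expand a ha _ hb, hAd, hab']
  · obtain rfl : c = b * (z : H) := hc'
    simp [expand b hb _ hd, expand b hb _ ha, expand b hb _ hb, hBd, hba']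
  · obtain rfl : c = a * b * (z : H) := hc'
    simp [expand _ (mul_mem ha hb) _ hd, expand _ (mul_mem ha hb) _ ha,
      expand _ (mul_mem ha hb) _ hb, lin a ha b hb _ hd, lin a ha b hb _ ha, lin a ha b hb _ hb,
      hAd, hBd, hab', hba']

end algebra

/-- The class of a vector is moved as the vector is. -/
theorem inIm_transfer {h : LGrp} (hh : h * tU = tU * h) {x y : ℕ} (hxy : inIm (x ^^^ y))
    (hx : inIm (h.act x ^^^ x)) : inIm (h.act y ^^^ y) := by
  have e := inIm_xor (inIm_mv h.2 (congrArg Subtype.val hh) hxy) (inIm_xor hxy hx)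
  rw [mv_xor] at e
  change inIm (h.act x ^^^ h.act y ^^^ (x ^^^ y ^^^ (h.act x ^^^ x))) at e
  have key : h.act y ^^^ y = h.act x ^^^ h.act y ^^^ (x ^^^ y ^^^ (h.act x ^^^ x)) := by
    refine Nat.eq_of_testBit_eq fun i => ?_
    simp only [Nat.testBit_xor]
    cases (h.act x).testBit i <;> cases (h.act y).testBit i <;> cases x.testBit i <;>
      cases y.testBit i <;> rfl
  rwa [key]

theorem tU_sq : tU * tU = 1 := LGrp.ext (show mm qU qU = idM by decide +kernel)

theorem tU_ne : tU ≠ 1 := fun e =>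
  absurd (congrArg Subtype.val e) (show qU ≠ idM by decide +kernel)

theorem six_no_normal_base {I U : Subgroup LGrp}
    (hI : ∀ g : LGrp, g ∈ I ↔ g * tU = tU * g ∧ inIm (g.act 64 ^^^ 64))
    (hU : U ≤ I) (hnorm : ∀ g ∈ I, ∀ u ∈ U, g * u * g⁻¹ ∈ U) (h2 : IsPGroup 2 U)
    (hder : ∀ a ∈ U, ∀ b ∈ U, a * b = b * a ∨ a * b = tU * (b * a))
    (hnab : ∃ a ∈ U, ∃ b ∈ U, a * b ≠ b * a)
    (hidx : (Subgroup.center U).index ≤ 4) : False := by
  obtain ⟨I', hcard, hmem', hI'⟩ := exists_six_stab
  obtain rfl : I = I' := by ext g; rw [hI, hI']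
  obtain ⟨S1, hc1, hm1⟩ := exists_subgroup_of_table sixS1_ok
  obtain ⟨S2, hc2, hm2⟩ := exists_subgroup_of_table sixS2_ok
  have hsub := six_sub_ok
  simp only [Bool.and_eq_true, List.all_eq_true, Bool.or_eq_true, List.elem_iff,
    Bool.not_eq_true'] at hsub
  rw [six_len.2.1] at hc1
  rw [six_len.2.2] at hc2
  have h1I : S1 ≤ I := fun g hg => (hmem' g).2 (hsub.1 _ ((hm1 g).1 hg)).1
  have h2I : S2 ≤ I := fun g hg => (hmem' g).2 (hsub.2 _ ((hm2 g).1 hg))
  have hN : I ≤ Subgroup.normalizer (U : Set LGrp) := by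
    intro g hg
    rw [Subgroup.mem_normalizer_iff]
    intro n
    refine ⟨fun hn => hnorm g hg n hn, fun hn => ?_⟩
    have := hnorm g⁻¹ (inv_mem hg) _ hn
    simpa [mul_assoc] using this
  have l1 := le_of_normal_two (by decide : Odd 3) hcard h1I (by rw [hc1]; norm_num) hU hN h2
  have l2 := le_of_normal_two (by decide : Odd 3) hcard h2I (by rw [hc2]; norm_num) hU hN h2
  have hok := sixMul_ok
  simp only [Bool.and_eq_true, List.all_eq_true, List.mem_range, beq_iff_eq] at hok
  obtain ⟨⟨⟨hlen, hTlt⟩, hT⟩, hprod⟩ := hok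
  have idx : ∀ u ∈ U, ∃ i < 64, sixM i = u.1 := fun u hu => by
    have hmemc : u.1 ∈ sixCore := by
      rcases (hsub.1 _ ((hm1 u).1 (l1 hu))).2 with e | e
      · simp [(hm2 u).1 (l2 hu)] at e
      · exact e
    obtain ⟨i, hi, e⟩ := mem_getD noMap hmemc
    exact ⟨i, Nat.eq_of_beq_eq_true hlen ▸ hi, e⟩
  have hprod' : ∀ (x y : LGrp) (i j : ℕ), i < 64 → j < 64 → sixM i = x.1 → sixM j = y.1 →
      sixM (sixProd i j) = (x * y).1 := fun x y i j hi hj ei ej => by
    rw [← (hprod i hi j hj).2, ei, ej]; rfl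
  have hlt : ∀ i j, i < 64 → j < 64 → sixProd i j < 64 := fun i j hi hj =>
    blt_lt (hprod i hi j hj).1
  have hnc : ∀ (x y : LGrp) (i j : ℕ), i < 64 → j < 64 → sixM i = x.1 → sixM j = y.1 →
      sixNc i j = ncB x y := fun x y i j hi hj ei ej => by
    by_cases hxy : x * y = y * x
    · have e : sixProd i j = sixProd j i := sixM_inj (hlt i j hi hj) (hlt j i hj hi) (by
        rw [hprod' x y i j hi hj ei ej, hprod' y x j i hj hi ej ei, hxy])
      rw [ncB_eq_false.2 hxy, sixNc, e, Nat.beq_refl]; rfl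
    · rw [ncB_eq_true.2 hxy, sixNc, Bool.not_eq_true']
      refine Bool.eq_false_iff.2 fun hb => hxy (LGrp.ext ?_)
      rw [← hprod' x y i j hi hj ei ej, Nat.eq_of_beq_eq_true hb, hprod' y x j i hj hi ej ei]
  have htprod : ∀ (x y : LGrp) (i j : ℕ), i < 64 → j < 64 → sixM i = x.1 → sixM j = y.1 →
      x * y = tU * (y * x) → sixProd i j = sixProd sixT (sixProd j i) :=
    fun x y i j hi hj ei ej e => sixM_inj (hlt i j hi hj) (hlt _ _ (blt_lt hTlt) (hlt j i hj hi))
      (by rw [hprod' x y i j hi hj ei ej,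
        hprod' tU (y * x) _ _ (blt_lt hTlt) (hlt j i hj hi) (by rw [hT, val_tU])
          (hprod' y x j i hj hi ej ei), e])
  have hok' : ∀ (x y : LGrp) (i j : ℕ), i < 64 → j < 64 → sixM i = x.1 → sixM j = y.1 →
      x ∈ U → y ∈ U → sixOk i j = true := fun x y i j hi hj ei ej hx hy => by
    rcases hder x hx y hy with e | e
    · have e' : sixProd i j = sixProd j i := sixM_inj (hlt i j hi hj) (hlt j i hj hi) (by
        rw [hprod' x y i j hi hj ei ej, hprod' y x j i hj hi ej ei, e])
      rw [sixOk, e', Nat.beq_refl]; rfl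
    · rw [sixOk, htprod x y i j hi hj ei ej e, Nat.beq_refl, Bool.or_true]
  -- classes stay inside
  have horb : ∀ a < 64, ∀ x ∈ U, sixM a = x.1 → ∀ i < (sixOrb.getD a []).length,
      (sixConj a i).1 < 64 ∧ ∃ y ∈ U, sixM (sixConj a i).1 = y.1 := by
    intro a ha x hx hax i
    induction i using Nat.strong_induction_on with
    | _ i ih =>
      intro hi
      have h := List.all_eq_true.1 (List.all_eq_true.1 sixOrb_ok a (List.mem_range.2 ha)) i
        (List.mem_range.2 hi)
      simp only [Bool.and_eq_true, Bool.or_eq_true, beq_iff_eq, List.elem_iff] at h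
      refine ⟨blt_lt h.1, ?_⟩
      rcases h.2 with ⟨-, e⟩ | ⟨⟨⟨h1, h2'⟩, hg⟩, e⟩
      · exact ⟨x, hx, by rw [Nat.eq_of_beq_eq_true e, hax]⟩
      · obtain ⟨hp, y, hy, ey⟩ := ih _ (blt_lt h1) ((blt_lt h1).trans hi)
        have hgL : InL (sixGen (sixConj a i).2.1) := by
          have hc := sixS0_ok
          simp only [tableOK, Bool.and_eq_true, List.all_eq_true] at hc
          exact inL_decodeM (hc.1.1.1.1.1 _ (getD_mem _ (blt_lt h2')))
        let g : LGrp := ⟨_, hgL⟩
        have hgI : g ∈ I := (hmem' g).2 hg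
        refine ⟨g * y * g⁻¹, hnorm g hgI y hy, ?_⟩
        have hzlt := blt_lt h.1
        have hcoreInL : InL (sixM (sixConj a i).1) := by
          have hmem : sixM (sixConj a i).1 ∈ sixCore :=
            getD_mem noMap (Nat.eq_of_beq_eq_true hlen ▸ hzlt)
          have : (sixCore.all fun m => sixS1Els.elem m) = true := by decide +kernel
          have hm := List.all_eq_true.1 this _ hmem
          simp only [List.elem_iff] at hm
          obtain ⟨j, hj, ej⟩ := mem_getD noMap hm
          rw [← ej]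
          have hc := sixS1_ok
          have key : ∀ j < sixS1Els.length, InL (sixS1Els.getD j noMap) := by
            simp only [tableOK, Bool.and_eq_true, List.all_eq_true, List.mem_range,
              Bool.or_eq_true, beq_iff_eq] at hc
            intro j
            induction j using Nat.strong_induction_on with
            | _ j ihj =>
              intro hj
              rcases hc.1.1.2 j hj with e' | ⟨⟨k1, k2⟩, e'⟩
              · rw [Nat.eq_of_beq_eq_true e', hc.1.1.1.2]; exact InL.one
              · rw [← e']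
                exact (inL_decodeM (hc.1.1.1.1.1 _ (getD_mem _ (blt_lt k2)))).comp
                  (ihj _ (blt_lt k1) ((blt_lt k1).trans hj))
          exact key j hj
        let w : LGrp := ⟨_, hcoreInL⟩
        have hgw : g * y = w * g := LGrp.ext (by
          show mm _ y.1 = mm _ _
          rw [← ey]; exact e)
        rw [hgw, mul_inv_cancel_right]
  obtain ⟨a, ha, b, hb, hab⟩ := hnab
  obtain ⟨i, hi, ei⟩ := idx a ha
  obtain ⟨j, hj, ej⟩ := idx b hb
  have hab' : a * b = tU * (b * a) := (hder a ha b hb).resolve_left hab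
  have hw := List.all_eq_true.1 (List.all_eq_true.1 sixBad_ok i (List.mem_range.2 hi)) j
    (List.mem_range.2 hj)
  simp only [Bool.or_eq_true, hnc a b i j hi hj ei ej, ncB_eq_true.2 hab,
    htprod a b i j hi hj ei ej hab', Nat.beq_refl, Bool.and_self, Bool.not_true,
    Bool.false_eq_true, false_or] at hw
  simp only [sixBad, Bool.and_eq_true, Bool.not_eq_true'] at hw
  obtain ⟨⟨hl1, hl2⟩, hw⟩ := hw
  have pick : ∀ s k, k < (sixOrb.getD (bif Nat.beq s 0 then i else j) []).length →
      sixPick i j s k < 64 ∧ ∃ y ∈ U, sixM (sixPick i j s k) = y.1 := fun s k hk => by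
    unfold sixPick
    revert hk
    cases Nat.beq s 0 <;> intro hk
    · exact horb j hj b hb ej k hk
    · exact horb i hi a ha ei k hk
  obtain ⟨hc, c, hcU, ec⟩ := pick _ _ (blt_lt hl1)
  obtain ⟨hd, d, hdU, ed⟩ := pick _ _ (blt_lt hl2)
  have hform := ncB_formula tU_ne tU_sq (U := U) (fun x hx => (((hI' x).1 (hU hx)).1).symm) hder
    ha hb hab hidx hcU hdU
  rw [hok' c d _ _ hc hd ec ed hcU hdU, hok' c a _ _ hc hi ec ei hcU ha,
    hok' c b _ _ hc hj ec ej hcU hb, hok' a d _ _ hi hd ei ed ha hdU,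
    hok' b d _ _ hj hd ej ed hb hdU, hnc c d _ _ hc hd ec ed, hnc c b _ _ hc hj ec ej,
    hnc a d _ _ hi hd ei ed, hnc c a _ _ hc hi ec ei, hnc b d _ _ hj hd ej ed, hform] at hw
  simp at hw

theorem six_reps_ok : ((sixReps.all fun c => codeOK c && mm (decodeM c) qU == mm qU (decodeM c)) &&
    (List.range 4096).all fun v => !(Nat.beq (mv qU v) v) || qF v || Nat.blt v 64 ||
      sixReps.any fun c => sixImMask.testBit (mv (decodeM c) 64 ^^^ v)) = true := by
  decide +kernel

/-- The stabiliser of the class of a singular vector fixed by `qU` outside the plane has no normal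
two-subgroup with commutators `1` and `qU` and centre of index at most four. -/
theorem six_no_normal {e : ℕ} (he : e < 4096) (hfix : mv qU e = e) (hq : qF e = false)
    (hoff : 64 ≤ e) {I U : Subgroup LGrp}
    (hI : ∀ g : LGrp, g ∈ I ↔ g * tU = tU * g ∧ inIm (g.act e ^^^ e))
    (hU : U ≤ I) (hnorm : ∀ g ∈ I, ∀ u ∈ U, g * u * g⁻¹ ∈ U) (h2 : IsPGroup 2 U)
    (hder : ∀ a ∈ U, ∀ b ∈ U, a * b = b * a ∨ a * b = tU * (b * a))
    (hnab : ∃ a ∈ U, ∃ b ∈ U, a * b ≠ b * a)
    (hidx : (Subgroup.center U).index ≤ 4) : False := by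
  have h := six_reps_ok
  simp only [Bool.and_eq_true, List.all_eq_true, List.mem_range, Bool.or_eq_true,
    List.any_eq_true, beq_iff_eq, Bool.not_eq_true'] at h
  rcases h.2 e he with ((e1 | e1) | e1) | ⟨c, hc, him⟩
  · rw [hfix, Nat.beq_refl] at e1; exact Bool.noConfusion e1
  · rw [hq] at e1; exact Bool.noConfusion e1
  · exact absurd (blt_lt e1) (not_lt.2 hoff)
  let γ : LGrp := ⟨decodeM c, inL_decodeM (h.1 c hc).1⟩
  have hγ : γ * tU = tU * γ := LGrp.ext (h.1 c hc).2
  have him' : inIm (γ.act 64 ^^^ e) := inIm_iff.2 him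
  have hγ' : γ⁻¹ * tU = tU * γ⁻¹ := (Commute.inv_left (show Commute γ tU from hγ)).eq
  let φ : LGrp →* LGrp := (MulAut.conj γ).toMonoidHom
  have hφ : ∀ x, φ x = γ * x * γ⁻¹ := fun _ => rfl
  have hφinj : Function.Injective φ := (MulAut.conj γ).injective
  let U' : Subgroup LGrp := U.comap φ
  let I' : Subgroup LGrp := I.comap φ
  have hφt : φ tU = tU := by rw [hφ, hγ, mul_inv_cancel_right]
  have hI' : ∀ g : LGrp, g ∈ I' ↔ g * tU = tU * g ∧ inIm (g.act 64 ^^^ 64) := by
    intro g
    have h64 : (64 : ℕ) < 4096 := by norm_num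
    have hx64 : (φ g).act (γ.act 64) = γ.act (g.act 64) := by
      rw [hφ, LGrp.act_mul, LGrp.act_mul, LGrp.act_inv γ h64]
    show φ g ∈ I ↔ _
    rw [hI]
    constructor
    · rintro ⟨hc1, hc2⟩
      have hcg : g * tU = tU * g := by
        apply hφinj
        rw [map_mul, map_mul, hφt]
        exact hc1
      refine ⟨hcg, ?_⟩
      have e1 := inIm_transfer hc1 (x := e) (y := γ.act 64) (Nat.xor_comm _ _ ▸ him') hc2
      rw [hx64] at e1
      have e2 := inIm_mv (γ⁻¹).2 (congrArg Subtype.val hγ') e1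
      rw [mv_xor] at e2
      change inIm ((γ⁻¹).act (γ.act (g.act 64)) ^^^ (γ⁻¹).act (γ.act 64)) at e2
      have e3 : (γ⁻¹).act (γ.act (g.act 64)) = g.act 64 := LGrp.act_inv γ (g.2.mv_lt 64)
      rwa [e3, LGrp.act_inv γ h64] at e2
    · rintro ⟨hc1, hc2⟩
      have hc1' : φ g * tU = tU * φ g := by
        have := congrArg φ hc1
        rwa [map_mul, map_mul, hφt] at this
      refine ⟨hc1', inIm_transfer hc1' him' ?_⟩
      have e2 := inIm_mv γ.2 (congrArg Subtype.val hγ) hc2
      rw [mv_xor] at e2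
      rw [hx64]
      exact e2
  have hU' : U' ≤ I' := fun x hx => hU hx
  refine six_no_normal_base hI' hU' (fun g hg u hu => ?_)
    (h2.of_injective (φ.subgroupComap U) ?_) (fun a ha b hb => ?_) ?_ ?_
  · show φ (g * u * g⁻¹) ∈ U
    rw [map_mul, map_mul, map_inv]
    exact hnorm _ hg _ hu
  · exact fun x y e => Subtype.ext (hφinj (congrArg Subtype.val e))
  · rcases hder _ ha _ hb with e | e
    · exact Or.inl (hφinj (by rw [map_mul, map_mul]; exact e))
    · exact Or.inr (hφinj (by rw [map_mul, map_mul, map_mul, hφt]; exact e))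
  · obtain ⟨a, ha, b, hb, hab⟩ := hnab
    obtain ⟨a', rfl⟩ := (MulAut.conj γ).surjective a
    obtain ⟨b', rfl⟩ := (MulAut.conj γ).surjective b
    exact ⟨a', ha, b', hb, fun e => hab (by rw [← map_mul, ← map_mul, e])⟩
  · let ψ : U' →* U := φ.subgroupComap U
    have hψ : Function.Bijective ψ := by
      refine ⟨fun x y e => Subtype.ext (hφinj (congrArg Subtype.val e)), fun y => ?_⟩
      obtain ⟨x, hx⟩ := (MulAut.conj γ).surjective y.1
      exact ⟨⟨x, show φ x ∈ U from hx.symm ▸ y.2⟩, Subtype.ext hx⟩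
    have hz : (Subgroup.center U).comap ψ = Subgroup.center U' := by
      ext x
      simp only [Subgroup.mem_comap, Subgroup.mem_center_iff]
      refine ⟨fun h y => hψ.1 ?_, fun h y => ?_⟩
      · rw [map_mul, map_mul, h]
      · obtain ⟨y', rfl⟩ := hψ.2 y
        rw [← map_mul, ← map_mul, h y']
    rw [← hz, Subgroup.index_comap_of_surjective _ hψ.2]
    exact hidx

end CfsgLib.J4Type.Cert
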